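import Groth.Agent.Lib.GrpLimit2.Stage

/-!
# Torsors over a limit come from a stage
-/

set_option autoImplicit false
set_option linter.style.haveILetI false
set_option backward.isDefEq.respectTransparency false
set_option backward.isDefEq.respectTransparency.types false

universe u

open CategoryTheory Limits AlgebraicGeometry MonoidalCategory CartesianMonoidalCategory

noncomputable section

namespace Groth.Agent.GrpLimit2

/-- The structure morphism has an fppf local section. -/
def HasFppfSec {S : Scheme.{u}} (X : Over S) : Prop :=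
  ∃ (Z : Scheme.{u}) (v : Z ⟶ S) (w : Z ⟶ X.left), w ≫ X.hom = v ∧
    Flat v ∧ Surjective v ∧ LocallyOfFinitePresentation v ∧ QuasiCompact v ∧ QuasiSeparated v

theorem hasFppfSec_of_hom {S : Scheme.{u}} {A X : Over S} (ω : A ⟶ X) [Flat A.hom] [Surjective A.hom]
    [LocallyOfFinitePresentation A.hom] [QuasiCompact A.hom] [QuasiSeparated A.hom] : HasFppfSec X :=
  ⟨A.left, A.hom, ω.left, Over.w ω, inferInstance, inferInstance, inferInstance, inferInstance, inferInstance⟩

theorem HasFppfSec.map {S S' : Scheme.{u}} (g : S' ⟶ S) {X : Over S} (h : HasFppfSec X) :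
    HasFppfSec (Red.bc g X) := by
  obtain ⟨Z, v, w, hw, h1, h2, h3, h4, h5⟩ := h
  haveI : Flat (Red.bc g (Over.mk v)).hom := MorphismProperty.pullback_snd _ _ h1
  haveI : Surjective (Red.bc g (Over.mk v)).hom := MorphismProperty.pullback_snd _ _ h2
  haveI : LocallyOfFinitePresentation (Red.bc g (Over.mk v)).hom := MorphismProperty.pullback_snd _ _ h3
  haveI : QuasiCompact (Red.bc g (Over.mk v)).hom := MorphismProperty.pullback_snd _ _ h4
  haveI : QuasiSeparated (Red.bc g (Over.mk v)).hom := MorphismProperty.pullback_snd _ _ h5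
  exact hasFppfSec_of_hom ((Over.pullback g).map (Over.homMk w hw : Over.mk v ⟶ X))

theorem HasFppfSec.of_hom {S : Scheme.{u}} {X X' : Over S} (h : HasFppfSec X) (e : X ⟶ X') : HasFppfSec X' := by
  obtain ⟨Z, v, w, hw, h⟩ := h
  exact ⟨Z, v, w ≫ e.left, by rw [Category.assoc, Over.w e, hw], h⟩

theorem isIso_lift_iff {S S' : Scheme.{u}} (g : S' ⟶ S) {G X : Over S} (α : G ⊗ X ⟶ X) :
    IsIso (CartesianMonoidalCategory.lift (Functor.LaxMonoidal.μ (Over.pullback g) G X ≫ (Over.pullback g).map α)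
      (snd (Red.bc g G) (Red.bc g X))) ↔
    IsIso ((Over.pullback g).map (CartesianMonoidalCategory.lift α (snd G X))) := by
  have e : CartesianMonoidalCategory.lift (Functor.LaxMonoidal.μ (Over.pullback g) G X ≫ (Over.pullback g).map α)
      (snd (Red.bc g G) (Red.bc g X)) = Functor.LaxMonoidal.μ (Over.pullback g) G X ≫
      (Over.pullback g).map (CartesianMonoidalCategory.lift α (snd G X)) ≫
        Functor.OplaxMonoidal.δ (Over.pullback g) X X := by
    apply CartesianMonoidalCategory.hom_ext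
    · simp [← Functor.map_comp]
    · simp only [lift_snd, Category.assoc, Functor.OplaxMonoidal.δ_snd, ← Functor.map_comp,
        lift_snd, Functor.Monoidal.μ_snd]
  rw [e, isIso_comp_left_iff, isIso_comp_right_iff]

variable {I : Type u} [SmallCategory I] [IsCofiltered I] {D : I ⥤ Scheme.{u}} {c : Cone D}
  [∀ {i j : I} (a : i ⟶ j), IsAffineHom (D.map a)]

/-- fppf local sections descend. -/
theorem exists_fppfSec_stage (hc : IsLimit c) [∀ i, CompactSpace (D.obj i)] [∀ i, QuasiSeparatedSpace (D.obj i)]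
    {j : I} {X : Over (D.obj j)} [LocallyOfFinitePresentation X.hom] (h : HasFppfSec (Red.bc (c.π.app j) X)) :
    ∃ (i : I) (f : i ⟶ j), HasFppfSec (Red.bc (D.map f) X) := by
  obtain ⟨Z, v, w, hw, h1, h2, h3, h4, h5⟩ := h
  haveI := h3
  haveI := h4
  haveI := h5
  haveI := isAffineHom_π_app D c hc j
  haveI : CompactSpace c.pt := Scheme.compactSpace_of_isLimit D c hc
  haveI : QuasiSeparatedSpace c.pt := quasiSeparatedSpace_of_quasiSeparated (c.π.app j)
  haveI : CompactSpace ↥(((Functor.const I).obj c.pt).obj j) := ‹CompactSpace c.pt›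
  haveI : QuasiSeparatedSpace ↥(((Functor.const I).obj c.pt).obj j) := ‹QuasiSeparatedSpace c.pt›
  haveI : CompactSpace Z := QuasiCompact.compactSpace_of_compactSpace v
  haveI : QuasiSeparatedSpace Z := quasiSeparatedSpace_of_quasiSeparated v
  haveI : LocallyOfFinitePresentation (Over.mk v).hom := h3
  haveI : CompactSpace (Over.mk v).left := ‹CompactSpace Z›
  haveI : QuasiSeparatedSpace (Over.mk v).left := ‹QuasiSeparatedSpace Z›
  obtain ⟨i₁, Z₀, hZ1, hZ2, hZ3, ⟨ψ⟩⟩ := exists_model hc (Over.mk v)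
  obtain ⟨k, a, b, -⟩ : ∃ (k : I) (a : k ⟶ j) (_ : k ⟶ i₁), True :=
    ⟨_, IsCofiltered.minToLeft j i₁, IsCofiltered.minToRight j i₁, trivial⟩
  let A₀ := Red.bc (D.map b) Z₀
  haveI : QuasiCompact A₀.hom := MorphismProperty.pullback_snd _ _ inferInstance
  haveI : QuasiSeparated A₀.hom := MorphismProperty.pullback_snd _ _ inferInstance
  haveI : LocallyOfFinitePresentation A₀.hom := MorphismProperty.pullback_snd _ _ inferInstance
  haveI : CompactSpace A₀.left := QuasiCompact.compactSpace_of_compactSpace A₀.hom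
  haveI : QuasiSeparatedSpace A₀.left := quasiSeparatedSpace_of_quasiSeparated A₀.hom
  haveI : LocallyOfFinitePresentation (Red.bc (D.map a) X).hom := MorphismProperty.pullback_snd _ _ inferInstance
  obtain ⟨l, g, w₁, -⟩ := exists_descend hc ((cmp (comp_π (c := c) b) Z₀).hom ≫ ψ.hom ≫
    (Over.homMk w hw : Over.mk v ⟶ Red.bc (c.π.app j) X) ≫ (cmp (comp_π (c := c) a) X).inv)
  let A := Red.bc (D.map g) A₀
  haveI : QuasiCompact A.hom := MorphismProperty.pullback_snd _ _ inferInstance
  haveI : QuasiSeparated A.hom := MorphismProperty.pullback_snd _ _ inferInstance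
  haveI : LocallyOfFinitePresentation A.hom := MorphismProperty.pullback_snd _ _ inferInstance
  haveI hU1 : QuasiCompact (𝟙_ (Over (D.obj l))).hom := inferInstanceAs (QuasiCompact (𝟙 _))
  haveI hU2 : QuasiSeparated (𝟙_ (Over (D.obj l))).hom := inferInstanceAs (QuasiSeparated (𝟙 _))
  haveI hU3 : LocallyOfFinitePresentation (𝟙_ (Over (D.obj l))).hom := inferInstanceAs (LocallyOfFinitePresentation (𝟙 _))
  let eA : Red.bc (c.π.app l) A ≅ Over.mk v :=
    cmp (comp_π (c := c) g) A₀ ≪≫ cmp (comp_π (c := c) b) Z₀ ≪≫ ψ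
  haveI : IsIso eA.hom.left := inferInstanceAs (IsIso ((Over.forget _).map eA.hom))
  have hAhom : (Red.bc (c.π.app l) A).hom = eA.hom.left ≫ v := (Over.w eA.hom).symm
  haveI : Flat (Red.bc (c.π.app l) A).hom := by rw [hAhom]; infer_instance
  haveI : Surjective (Red.bc (c.π.app l) A).hom := by rw [hAhom]; infer_instance
  haveI : IsIso (Red.bc (c.π.app l) (𝟙_ (Over (D.obj l)))).hom :=
    inferInstanceAs (IsIso (pullback.snd (𝟙 (D.obj l)) (c.π.app l)))
  have ht : ((Over.pullback (c.π.app l)).map (toUnit A)).left =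
      (Red.bc (c.π.app l) A).hom ≫ inv (Red.bc (c.π.app l) (𝟙_ (Over (D.obj l)))).hom := by
    rw [IsIso.eq_comp_inv]
    exact Over.w _
  obtain ⟨m, h, hm1, hm2⟩ := exists_flat_surjective hc (toUnit A) (by rw [ht]; infer_instance) (by rw [ht]; infer_instance)
  haveI : IsIso (Red.bc (D.map h) (𝟙_ (Over (D.obj l)))).hom :=
    inferInstanceAs (IsIso (pullback.snd (𝟙 (D.obj l)) (D.map h)))
  have hh : (Red.bc (D.map h) A).hom = ((Over.pullback (D.map h)).map (toUnit A)).left ≫
      (Red.bc (D.map h) (𝟙_ (Over (D.obj l)))).hom := (Over.w _).symm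
  haveI : Flat (Red.bc (D.map h) A).hom := by haveI := hm1; rw [hh]; infer_instance
  haveI : Surjective (Red.bc (D.map h) A).hom := by haveI := hm2; rw [hh]; infer_instance
  haveI : QuasiCompact (Red.bc (D.map h) A).hom := MorphismProperty.pullback_snd _ _ inferInstance
  haveI : QuasiSeparated (Red.bc (D.map h) A).hom := MorphismProperty.pullback_snd _ _ inferInstance
  haveI : LocallyOfFinitePresentation (Red.bc (D.map h) A).hom := MorphismProperty.pullback_snd _ _ inferInstance
  exact ⟨m, h ≫ g ≫ a, hasFppfSec_of_hom ((Over.pullback (D.map h)).map (w₁ ≫ (cmp (d_comp g a) X).hom) ≫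
    (cmp (d_comp h (g ≫ a)) X).hom)⟩

/-- A pair (isomorphism, fppf local section) over the limit comes from a stage. -/
theorem isIso_and_fppfSec_iff (hc : IsLimit c) [∀ i, CompactSpace (D.obj i)] [∀ i, QuasiSeparatedSpace (D.obj i)]
    {j : I} {A B X : Over (D.obj j)} (φ : A ⟶ B) [LocallyOfFinitePresentation A.hom] [QuasiCompact A.hom]
    [QuasiSeparated A.hom] [LocallyOfFinitePresentation B.hom] [QuasiCompact B.hom] [QuasiSeparated B.hom]
    [LocallyOfFinitePresentation X.hom] :
    (IsIso ((Over.pullback (c.π.app j)).map φ) ∧ HasFppfSec (Red.bc (c.π.app j) X)) ↔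
      ∃ (i : I) (f : i ⟶ j), IsIso ((Over.pullback (D.map f)).map φ) ∧ HasFppfSec (Red.bc (D.map f) X) := by
  constructor
  · rintro ⟨h1, h2⟩
    obtain ⟨k₁, f₁, e₁⟩ := exists_isIso_map hc φ h1
    obtain ⟨k₂, f₂, e₂⟩ := exists_fppfSec_stage hc h2
    obtain ⟨k, a, b, hab⟩ := IsCofiltered.cospan f₁ f₂
    haveI := e₁
    refine ⟨k, a ≫ f₁, (NatIso.isIso_map_iff (cmpNat (d_comp a f₁)) φ).1
      (inferInstanceAs (IsIso ((Over.pullback (D.map a)).map ((Over.pullback (D.map f₁)).map φ)))), ?_⟩
    rw [hab]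
    exact (e₂.map (D.map b)).of_hom (cmp (d_comp b f₂) X).hom
  · rintro ⟨i, f, h1, h2⟩
    exact ⟨(NatIso.isIso_map_iff (cmpNat (comp_π (c := c) f)) φ).1
      (inferInstanceAs (IsIso ((Over.pullback (c.π.app i)).map ((Over.pullback (D.map f)).map φ)))),
      (h2.map (c.π.app i)).of_hom (cmp (comp_π (c := c) f) X).hom⟩

end Groth.Agent.GrpLimit2
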