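import Groth.Agent.Lib.GrpLimit2.Model
import Groth.Agent.Lib.GrpLimit2.Torsor
import Groth.Agent.Lib.TorsorSch25.Transfer
import Groth.Agent.S9187
import Groth.Prelude.Def_ActBC
import Mathlib.AlgebraicGeometry.Morphisms.LocalFlatDescent
import Mathlib.AlgebraicGeometry.Sites.Fpqc

/-!
# Actions and finite torsors descend to a stage of a limit
-/

set_option autoImplicit false
set_option linter.style.haveILetI false
set_option backward.isDefEq.respectTransparency false

universe u

open CategoryTheory CategoryTheory.Limits MonoidalCategory CartesianMonoidalCategory MonObj GrpObj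
  AlgebraicGeometry Functor

noncomputable section

namespace Groth.Agent.GrpLimit2

section General

variable {T : Scheme.{u}} {H G X V : Over T} [GrpObj H] [GrpObj G]

/-- An action transported along an isomorphism. -/
def conjAct (θ : X ≅ V) (a : AlgGrp.Action G V) : AlgGrp.Action G X where
  act := (G ◁ θ.hom) ≫ a.act ≫ θ.inv
  one_act := by
    rw [← whisker_exchange_assoc, reassoc_of% a.one_act, leftUnitor_naturality_assoc]
    simp
  mul_act := by
    rw [← whisker_exchange_assoc, reassoc_of% a.mul_act]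
    simp [MonoidalCategory.whiskerLeft_comp]

theorem isPseudoTorsorSch_conjAct {a : AlgGrp.Action G V} (θ : X ≅ V) (h : NonAbH1.IsPseudoTorsorSch a) :
    NonAbH1.IsPseudoTorsorSch (conjAct θ a) := by
  haveI : IsIso (lift a.act (snd G V)) := h
  have e : lift (conjAct θ a).act (snd G X) =
      (G ◁ θ.hom) ≫ lift a.act (snd G V) ≫ (θ.inv ⊗ₘ θ.inv) := by
    apply CartesianMonoidalCategory.hom_ext <;> simp [conjAct]
  show IsIso _
  rw [e]; infer_instance

theorem isPseudoTorsorSch_restrict {a : AlgGrp.Action G X} (φ : H ⟶ G) [IsMonHom φ] [IsIso φ]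
    (h : NonAbH1.IsPseudoTorsorSch a) : NonAbH1.IsPseudoTorsorSch (a.restrict φ) := by
  haveI : IsIso (lift a.act (snd G X)) := h
  have e : lift (a.restrict φ).act (snd H X) = (φ ▷ X) ≫ lift a.act (snd G X) := by
    apply CartesianMonoidalCategory.hom_ext <;> simp
  show IsIso _
  rw [e]; infer_instance

theorem laws_of_map {S S' : Scheme.{u}} (f : S' ⟶ S) {A B : Over S} [GrpObj A] (act : A ⊗ B ⟶ B)
    (a : AlgGrp.Action (Red.bc f A) (Red.bc f B))
    (ha : LaxMonoidal.μ (Over.pullback f) A B ≫ (Over.pullback f).map act = a.act) :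
    (Over.pullback f).map ((η[A] ▷ B) ≫ act) = (Over.pullback f).map (λ_ B).hom ∧
      (Over.pullback f).map ((μ[A] ▷ B) ≫ act) =
        (Over.pullback f).map ((α_ A A B).hom ≫ (A ◁ act) ≫ act) := by
  constructor
  · have h := a.one_act
    rw [← ha, Functor.obj.η_def, comp_whiskerRight, Category.assoc,
      LaxMonoidal.μ_natural_left_assoc, ← Functor.map_comp,
      LaxMonoidal.left_unitality (Over.pullback f) B] at h
    exact (cancel_epi _).1 ((cancel_epi _).1 h)
  · have h := a.mul_act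
    rw [← ha, Functor.obj.μ_def, comp_whiskerRight, Category.assoc,
      LaxMonoidal.μ_natural_left_assoc, ← Functor.map_comp, MonoidalCategory.whiskerLeft_comp,
      Category.assoc, LaxMonoidal.μ_natural_right_assoc, ← Functor.map_comp] at h
    rw [← cancel_epi (LaxMonoidal.μ (Over.pullback f) (A ⊗ A) B),
      ← cancel_epi (LaxMonoidal.μ (Over.pullback f) A A ▷ (Over.pullback f).obj B), h,
      Functor.map_comp (Over.pullback f) (α_ A A B).hom, LaxMonoidal.associativity_assoc]

/-- An action whose laws hold after base change gives an action after base change. -/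
def bcAct {S S' : Scheme.{u}} (f : S' ⟶ S) {A B : Over S} [GrpObj A] (act : A ⊗ B ⟶ B)
    (h₁ : (Over.pullback f).map ((η[A] ▷ B) ≫ act) = (Over.pullback f).map (λ_ B).hom)
    (h₂ : (Over.pullback f).map ((μ[A] ▷ B) ≫ act) =
      (Over.pullback f).map ((α_ A A B).hom ≫ (A ◁ act) ≫ act)) :
    AlgGrp.Action (Red.bc f A) (Red.bc f B) where
  act := LaxMonoidal.μ (Over.pullback f) A B ≫ (Over.pullback f).map act
  one_act := by
    rw [Functor.obj.η_def, comp_whiskerRight, Category.assoc, LaxMonoidal.μ_natural_left_assoc,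
      ← Functor.map_comp, h₁]
    exact (LaxMonoidal.left_unitality (Over.pullback f) B).symm
  mul_act := by
    rw [Functor.obj.μ_def, comp_whiskerRight, Category.assoc, LaxMonoidal.μ_natural_left_assoc,
      ← Functor.map_comp, h₂, Functor.map_comp, Functor.map_comp, LaxMonoidal.associativity_assoc,
      ← LaxMonoidal.μ_natural_right_assoc, MonoidalCategory.whiskerLeft_comp, Category.assoc]

end General

section Shift

variable {S S' P : Scheme.{u}} {f : P ⟶ S'} {g : S' ⟶ S} {h : P ⟶ S} (hfg : f ≫ g = h)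

theorem shift_act {H : Over S'} {A X : Over S} (φ : H ⟶ Red.bc g A)
    (w : Red.bc g (A ⊗ X) ⟶ Red.bc g X) (u : Red.bc h (A ⊗ X) ⟶ Red.bc h X)
    (hw : (Over.pullback f).map w ≫ (cmp hfg X).hom = (cmp hfg (A ⊗ X)).hom ≫ u) :
    LaxMonoidal.μ (Over.pullback f) H (Red.bc g X) ≫
        (Over.pullback f).map ((φ ▷ Red.bc g X) ≫ LaxMonoidal.μ (Over.pullback g) A X ≫ w) ≫
          (cmp hfg X).hom =
      (((Over.pullback f).map φ ≫ (cmp hfg A).hom) ⊗ₘ (cmp hfg X).hom) ≫
        LaxMonoidal.μ (Over.pullback h) A X ≫ u := by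
  rw [Functor.map_comp, Functor.map_comp, Category.assoc, Category.assoc, hw,
    ← LaxMonoidal.μ_natural_left_assoc, reassoc_of% cmp_μ hfg A X, tensorHom_def (cmp hfg A).hom,
    tensorHom_def (_ ≫ _), comp_whiskerRight]
  simp

theorem bcCompIso_inv_cmp {Q : Scheme.{u}} (r : S ⟶ Q) {d : S' ⟶ Q} (hd : g ≫ r = d) {e : P ⟶ Q}
    (he : h ≫ r = e) (he' : f ≫ d = e) (A : Over Q) :
    (Over.pullback f).map (ActBC.bcCompIso g r A hd).inv ≫ (cmp hfg (Red.bc r A)).hom ≫
        (ActBC.bcCompIso h r A he).hom = (ActBC.bcCompIso f d A he').hom := by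
  refine Over.OverMorphism.ext (pullback.hom_ext ?_ ?_)
  · simp only [Over.comp_left, Category.assoc, ActBC.bcCompIso_hom_left_fst]
    rw [reassoc_of% cmp_fst hfg (Red.bc r A), ← ActBC.bcCompIso_hom_left_fst g r A hd]
    rw [ActBC.pullback_map_left_fst_assoc, ← Over.comp_left_assoc, Iso.inv_hom_id, Over.id_left,
      Category.id_comp]
  · exact (Over.w _).trans (Over.w _).symm

end Shift

section Descend

variable {I : Type u} [SmallCategory I] [IsCofiltered I] {D : I ⥤ Scheme.{u}} {c : Cone D}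
  [∀ {i j : I} (a : i ⟶ j), IsAffineHom (D.map a)] {B : Scheme.{u}} (b : ∀ i, D.obj i ⟶ B)
  (hb : ∀ {i j : I} (f : i ⟶ j), D.map f ≫ b j = b i) {d : c.pt ⟶ B}
  (hd : ∀ i, c.π.app i ≫ b i = d) {G : Over B} [GrpObj G]
  {V : Over c.pt} (a : AlgGrp.Action (Red.bc d G) V)

/-- A morphism at stage `i` inducing the given action at the limit. -/
def Induces {i : I} {W : Over (D.obj i)} (act : Red.bc (b i) G ⊗ W ⟶ W)
    (θ : Red.bc (c.π.app i) W ≅ V) : Prop :=
  LaxMonoidal.μ (Over.pullback (c.π.app i)) (Red.bc (b i) G) W ≫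
      (Over.pullback (c.π.app i)).map act ≫ θ.hom =
    (Red.bc (c.π.app i) (Red.bc (b i) G) ◁ θ.hom) ≫
      ((ActBC.bcCompIso (c.π.app i) (b i) G (hd i)).hom ▷ V) ≫ a.act

include hb in
/-- Moving an inducing morphism to a later stage. -/
theorem induces_push {i k : I} (g : k ⟶ i) {W : Over (D.obj i)} {act : Red.bc (b i) G ⊗ W ⟶ W}
    {θ : Red.bc (c.π.app i) W ≅ V} (h : Induces b hd a act θ) :
    Induces b hd a (((ActBC.bcCompIso (D.map g) (b i) G (hb g)).inv ▷ Red.bc (D.map g) W) ≫
      LaxMonoidal.μ (Over.pullback (D.map g)) (Red.bc (b i) G) W ≫ (Over.pullback (D.map g)).map act)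
      (cmp (comp_π g) W ≪≫ θ) := by
  unfold Induces at h ⊢
  have hs := shift_act (comp_π (c := c) g) (ActBC.bcCompIso (D.map g) (b i) G (hb g)).inv
    ((Over.pullback (D.map g)).map act) ((Over.pullback (c.π.app i)).map act)
    (cmp_natural (comp_π (c := c) g) act)
  rw [Iso.trans_hom, reassoc_of% hs, h,
    ← bcCompIso_inv_cmp (comp_π (c := c) g) (b i) (hb g) (hd i) (hd k) G]
  simp [tensorHom_def', whisker_exchange_assoc]

include hb in
/-- An action on a finite presentation model descends to a stage. -/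
theorem exists_induces (hc : IsLimit c) {j : I} (W : Over (D.obj j)) (θ : Red.bc (c.π.app j) W ≅ V)
    [LocallyOfFinitePresentation W.hom] [CompactSpace (Red.bc (b j) G ⊗ W).left]
    [QuasiSeparatedSpace (Red.bc (b j) G ⊗ W).left] :
    ∃ (i : I) (f : i ⟶ j) (act : Red.bc (b i) G ⊗ Red.bc (D.map f) W ⟶ Red.bc (D.map f) W),
      Induces b hd a act (cmp (comp_π f) W ≪≫ θ) := by
  obtain ⟨i, f, u, hu⟩ := exists_descend hc
    (OplaxMonoidal.δ (Over.pullback (c.π.app j)) (Red.bc (b j) G) W ≫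
      ((ActBC.bcCompIso (c.π.app j) (b j) G (hd j)).hom ⊗ₘ θ.hom) ≫ a.act ≫ θ.inv)
  refine ⟨i, f, ((ActBC.bcCompIso (D.map f) (b j) G (hb f)).inv ▷ _) ≫
    LaxMonoidal.μ (Over.pullback (D.map f)) (Red.bc (b j) G) W ≫ u, ?_⟩
  unfold Induces
  rw [Iso.trans_hom, reassoc_of% shift_act (comp_π (c := c) f) _ u _ hu,
    ← bcCompIso_inv_cmp (comp_π (c := c) f) (b j) (hb f) (hd j) (hd i) G]
  simp [tensorHom_def', whisker_exchange_assoc]

include hb in
/-- The action laws hold at a later stage. -/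
theorem exists_action (hc : IsLimit c) {i : I} {W : Over (D.obj i)}
    {act : Red.bc (b i) G ⊗ W ⟶ W} {θ : Red.bc (c.π.app i) W ≅ V} (h : Induces b hd a act θ)
    [LocallyOfFiniteType W.hom] [CompactSpace (𝟙_ _ ⊗ W).left] [QuasiSeparatedSpace (𝟙_ _ ⊗ W).left]
    [CompactSpace ((Red.bc (b i) G ⊗ Red.bc (b i) G) ⊗ W).left]
    [QuasiSeparatedSpace ((Red.bc (b i) G ⊗ Red.bc (b i) G) ⊗ W).left] :
    ∃ (k : I) (g : k ⟶ i) (ak : AlgGrp.Action (Red.bc (b k) G) (Red.bc (D.map g) W)),
      Induces b hd a ak.act (cmp (comp_π g) W ≪≫ θ) := by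
  have ha : LaxMonoidal.μ (Over.pullback (c.π.app i)) (Red.bc (b i) G) W ≫
      (Over.pullback (c.π.app i)).map act =
        (conjAct θ (a.restrict (ActBC.bcCompIso (c.π.app i) (b i) G (hd i)).hom)).act := by
    unfold Induces at h
    rw [← cancel_mono θ.hom]
    simpa [conjAct] using h
  obtain ⟨h₁, h₂⟩ := laws_of_map (c.π.app i) act _ ha
  obtain ⟨k, g, e₁, e₂⟩ := exists_map_eq₂ hc _ _ _ _ h₁ h₂
  exact ⟨k, g, (bcAct (D.map g) act e₁ e₂).restrict (ActBC.bcCompIso (D.map g) (b i) G (hb g)).inv,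
    induces_push b hb hd a g h⟩

end Descend

end Groth.Agent.GrpLimit2
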