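import Groth.Agent.Lib.LimH13.Hom
import Groth.Agent.Lib.DiagGL.Chars

/-!
# Morphisms of group schemes over a cofiltered limit of schemes
-/

set_option autoImplicit false
set_option linter.style.haveILetI false
set_option backward.isDefEq.respectTransparency false
set_option backward.isDefEq.respectTransparency.types false

universe u

open CategoryTheory Limits AlgebraicGeometry MonoidalCategory CartesianMonoidalCategory MonObj

noncomputable section

namespace Groth.Agent.GrpLimit2

section Cmp

variable {S S' P : Scheme.{u}} {f : P ⟶ S'} {g : S' ⟶ S} {h : P ⟶ S} (hfg : f ≫ g = h)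

/-- Base change in two steps. -/
def cmp (X : Over S) : Red.bc f (Red.bc g X) ≅ Red.bc h X :=
  ((Over.pullbackComp f g).app X).symm ≪≫ eqToIso (congrArg (fun k => Red.bc k X) hfg)

theorem cmp_fst (X : Over S) :
    (cmp hfg X).hom.left ≫ pullback.fst X.hom h = pullback.fst _ f ≫ pullback.fst X.hom g := by
  subst hfg
  have e : ((Over.pullbackComp f g).hom.app X).left ≫ pullback.fst _ f ≫ pullback.fst X.hom g =
      pullback.fst X.hom (f ≫ g) := by
    simp [Over.pullbackComp, conjugateEquiv, Adjunction.comp, Over.mapComp, Over.mapPullbackAdj]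
    exact (Category.id_comp _).trans (Category.id_comp _)
  haveI : IsIso ((Over.pullbackComp f g).hom.app X).left :=
    inferInstanceAs (IsIso ((Over.forget P).map ((Over.pullbackComp f g).hom.app X)))
  rw [← cancel_epi ((Over.pullbackComp f g).hom.app X).left]
  simp only [cmp, eqToIso_refl, Iso.trans_hom, Iso.symm_hom, Iso.refl_hom, Over.comp_left]
  rw [Category.assoc, ← Category.assoc, ← Over.comp_left, Iso.app_inv, Iso.hom_inv_id_app, Over.id_left,
    Category.id_comp, e]
  exact Category.id_comp _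

theorem cmp_snd (X : Over S) : (cmp hfg X).hom.left ≫ pullback.snd X.hom h = pullback.snd _ f :=
  Over.w (cmp hfg X).hom

theorem cmp_natural {X Y : Over S} (u : X ⟶ Y) :
    (Over.pullback f).map ((Over.pullback g).map u) ≫ (cmp hfg Y).hom =
      (cmp hfg X).hom ≫ (Over.pullback h).map u := by
  refine Over.OverMorphism.ext ?_
  apply pullback.hom_ext
  · simp only [Over.comp_left, Over.pullback_map_left, Category.assoc, cmp_fst, pullback.lift_fst]
    rw [reassoc_of% cmp_fst hfg X]
    simp
  · simp only [Over.comp_left, Over.pullback_map_left, Category.assoc, cmp_snd, pullback.lift_snd]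

theorem isMonHom_of_mul {T : Scheme.{u}} {A B : Over T} [GrpObj A] [GrpObj B] (v : A ⟶ B)
    (hv : ∀ (Y : Over T) (a b : Y ⟶ A), (a * b) ≫ v = (a ≫ v) * (b ≫ v)) : IsMonHom v := by
  have hone : (1 : 𝟙_ (Over T) ⟶ A) ≫ v = 1 := by
    have h' := hv _ (1 : 𝟙_ (Over T) ⟶ A) 1
    rw [_root_.one_mul] at h'
    exact right_eq_mul.1 h'
  refine ⟨?_, ?_⟩
  · rw [Hom.one_def, Hom.one_def, toUnit_unique (toUnit (𝟙_ (Over T))) (𝟙 _)] at hone
    simpa using hone
  · have h := hv (A ⊗ A) (fst A A) (snd A A)
    simpa [Hom.mul_def, tensorHom_def] using h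

/-- A point over `P` seen over `S`. -/
def two (Y : Over P) : (Over.map h).obj Y ≅ (Over.map g).obj ((Over.map f).obj Y) :=
  Over.isoMk (Iso.refl _) (by simp [hfg])

theorem fl_left {T : Over P} {X : Over S} [GrpObj X] (x : T ⟶ Red.bc h X) :
    (DiagGL.fl h X x).left = x.left ≫ pullback.fst X.hom h := rfl

instance isMonHom_cmp (X : Over S) [GrpObj X] : IsMonHom (cmp hfg X).hom := by
  have key : ∀ (Y : Over P) (x : Y ⟶ Red.bc f (Red.bc g X)),
      DiagGL.fl h X (x ≫ (cmp hfg X).hom) = (two hfg Y).hom ≫ DiagGL.fl g X (DiagGL.fl f (Red.bc g X) x) := by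
    intro Y x
    refine Over.OverMorphism.ext ?_
    simp [fl_left, two, cmp_fst]
  exact isMonHom_of_mul _ fun Y a b => DiagGL.fl_injective h X (by
    rw [key, DiagGL.fl_mul, DiagGL.fl_mul, DiagGL.fl_mul, key, key, MonObj.comp_mul])

instance isMonHom_cmp_inv (X : Over S) [GrpObj X] : IsMonHom (cmp hfg X).inv :=
  isMonHom_of_mul _ fun Y a b => by
    rw [← cancel_mono (cmp hfg X).hom]
    have := isMonHom_cmp hfg X
    simp [MonObj.mul_comp]

end Cmp

theorem isMonHom_map_iff {S S' : Scheme.{u}} (g : S' ⟶ S) {A B : Over S} [GrpObj A] [GrpObj B] (v : A ⟶ B) :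
    IsMonHom ((Over.pullback g).map v) ↔
      (Over.pullback g).map (η[A] ≫ v) = (Over.pullback g).map η[B] ∧
      (Over.pullback g).map (μ[A] ≫ v) = (Over.pullback g).map ((v ⊗ₘ v) ≫ μ[B]) := by
  constructor
  · intro hm
    constructor
    · have h := hm.one_hom
      rw [show η[Red.bc g A] = Functor.LaxMonoidal.ε (Over.pullback g) ≫ (Over.pullback g).map η[A] from rfl,
        show η[Red.bc g B] = Functor.LaxMonoidal.ε (Over.pullback g) ≫ (Over.pullback g).map η[B] from rfl,
        Category.assoc, ← Functor.map_comp, cancel_epi] at h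
      exact h
    · have h := hm.mul_hom
      rw [show μ[Red.bc g A] = Functor.LaxMonoidal.μ (Over.pullback g) A A ≫ (Over.pullback g).map μ[A] from rfl,
        show μ[Red.bc g B] = Functor.LaxMonoidal.μ (Over.pullback g) B B ≫ (Over.pullback g).map μ[B] from rfl,
        Functor.LaxMonoidal.μ_natural_assoc, Category.assoc, ← Functor.map_comp, ← Functor.map_comp, cancel_epi] at h
      exact h
  · rintro ⟨h1, h2⟩
    refine ⟨?_, ?_⟩
    · rw [show η[Red.bc g A] = Functor.LaxMonoidal.ε (Over.pullback g) ≫ (Over.pullback g).map η[A] from rfl,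
        show η[Red.bc g B] = Functor.LaxMonoidal.ε (Over.pullback g) ≫ (Over.pullback g).map η[B] from rfl,
        Category.assoc, ← Functor.map_comp, h1]
    · rw [show μ[Red.bc g A] = Functor.LaxMonoidal.μ (Over.pullback g) A A ≫ (Over.pullback g).map μ[A] from rfl,
        show μ[Red.bc g B] = Functor.LaxMonoidal.μ (Over.pullback g) B B ≫ (Over.pullback g).map μ[B] from rfl,
        Functor.LaxMonoidal.μ_natural_assoc, Category.assoc, ← Functor.map_comp, ← Functor.map_comp, h2]

section Lim

variable {I : Type u} [SmallCategory I] [IsCofiltered I] {D : I ⥤ Scheme.{u}} {c : Cone D}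
  [∀ {i j : I} (a : i ⟶ j), IsAffineHom (D.map a)]

/-- Two morphisms agreeing at the limit agree at a stage. -/
theorem exists_map_eq (hc : IsLimit c) {i : I} {A B : Over (D.obj i)} [CompactSpace A.left]
    [QuasiSeparatedSpace A.left] [LocallyOfFiniteType B.hom] (v w : A ⟶ B)
    (h : (Over.pullback (c.π.app i)).map v = (Over.pullback (c.π.app i)).map w) :
    ∃ (k : I) (g : k ⟶ i), (Over.pullback (D.map g)).map v = (Over.pullback (D.map g)).map w := by
  have h' : pullback.fst A.hom (c.π.app i) ≫ v.left = pullback.fst A.hom (c.π.app i) ≫ w.left := by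
    have e := congrArg (fun t => CommaMorphism.left t ≫ pullback.fst B.hom (c.π.app i)) h
    simpa using e
  obtain ⟨k, g, hk⟩ := LimH13.exists_fst_comp_eq hc i A.hom B.hom _ _
    (IsPullback.of_hasPullback A.hom (c.π.app i)) v.left w.left (Over.w v) (Over.w w) h'
  refine ⟨k, g, Over.OverMorphism.ext ?_⟩
  apply pullback.hom_ext <;> simp [hk]

theorem comp_π {i k : I} (g : k ⟶ i) : c.π.app k ≫ D.map g = c.π.app i := c.w g

/-- A morphism at the limit comes from a stage. -/
theorem exists_descend (hc : IsLimit c) {j : I} {A B : Over (D.obj j)} [CompactSpace A.left]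
    [QuasiSeparatedSpace A.left] [LocallyOfFinitePresentation B.hom]
    (u : Red.bc (c.π.app j) A ⟶ Red.bc (c.π.app j) B) :
    ∃ (i : I) (f : i ⟶ j) (ui : Red.bc (D.map f) A ⟶ Red.bc (D.map f) B),
      (Over.pullback (c.π.app i)).map ui ≫ (cmp (comp_π f) B).hom = (cmp (comp_π f) A).hom ≫ u := by
  obtain ⟨i, f, fj, sX, sY, hfj, hX1, hX2, hY1, hY2, hs⟩ := LimH13.exists_hom_descend hc j A.hom B.hom
    _ _ (IsPullback.of_hasPullback A.hom (c.π.app j)) _ _ (IsPullback.of_hasPullback B.hom (c.π.app j))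
    u.left (Over.w u)
  let uf : Red.bc (D.map f) A ⟶ Red.bc (D.map f) B := Over.homMk fj hfj
  refine ⟨i, f, uf, Over.OverMorphism.ext ?_⟩
  have hinv : (cmp (comp_π f) A).inv.left ≫ pullback.fst _ (c.π.app i) = sX := by
    have e1 := cmp_fst (comp_π (c := c) f) A
    have e2 : (cmp (comp_π (c := c) f) A).inv.left ≫ (cmp (comp_π (c := c) f) A).hom.left = 𝟙 _ := by
      rw [← Over.comp_left, Iso.inv_hom_id, Over.id_left]
    apply pullback.hom_ext
    · rw [hX1, Category.assoc, ← e1, reassoc_of% e2]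
    · rw [hX2, Category.assoc]
      erw [pullback.condition (f := (Red.bc (D.map f) A).hom) (g := c.π.app i)]
      rw [← Category.assoc]
      exact congrArg (· ≫ c.π.app i) (Over.w (cmp (comp_π (c := c) f) A).inv)
  haveI : IsIso (cmp (comp_π (c := c) f) A).inv.left :=
    inferInstanceAs (IsIso ((Over.forget _).map (cmp (comp_π (c := c) f) A).inv))
  rw [← cancel_epi (cmp (comp_π (c := c) f) A).inv.left, ← Over.comp_left, ← Over.comp_left, Iso.inv_hom_id_assoc]
  apply pullback.hom_ext
  · simp only [Over.comp_left, Over.pullback_map_left, Category.assoc, cmp_fst, pullback.lift_fst_assoc,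
      uf, Over.homMk_left]
    rw [← Category.assoc, hinv, reassoc_of% hs, hY1]
  · exact (Over.w ((cmp (comp_π f) A).inv ≫ (Over.pullback (c.π.app i)).map uf ≫
      (cmp (comp_π f) B).hom)).trans (Over.w u).symm

/-- A homomorphism at the limit comes from a homomorphism at a stage. -/
theorem exists_descend_isMonHom (hc : IsLimit c) [∀ i, CompactSpace (D.obj i)] [∀ i, QuasiSeparatedSpace (D.obj i)]
    {j : I} {G H : Over (D.obj j)} [GrpObj G] [GrpObj H]
    [QuasiCompact G.hom] [QuasiSeparated G.hom] [LocallyOfFinitePresentation H.hom]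
    (u : Red.bc (c.π.app j) G ⟶ Red.bc (c.π.app j) H) (hu : IsMonHom u) :
    ∃ (i : I) (f : i ⟶ j) (ui : Red.bc (D.map f) G ⟶ Red.bc (D.map f) H), IsMonHom ui ∧
      (Over.pullback (c.π.app i)).map ui ≫ (cmp (comp_π f) H).hom = (cmp (comp_π f) G).hom ≫ u := by
  haveI : CompactSpace G.left := QuasiCompact.compactSpace_of_compactSpace G.hom
  haveI : QuasiSeparatedSpace G.left := quasiSeparatedSpace_of_quasiSeparated G.hom
  obtain ⟨i, f, u₀, hu₀⟩ := exists_descend hc u
  haveI hm : IsMonHom ((Over.pullback (c.π.app i)).map u₀) := by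
    have e : (Over.pullback (c.π.app i)).map u₀ = (cmp (comp_π f) G).hom ≫ u ≫ (cmp (comp_π f) H).inv := by
      rw [← reassoc_of% hu₀, Iso.hom_inv_id, Category.comp_id]
    rw [e]
    infer_instance
  obtain ⟨h1, h2⟩ := (isMonHom_map_iff _ _).1 hm
  let A := Red.bc (D.map f) G
  haveI : LocallyOfFinitePresentation (Red.bc (D.map f) H).hom := MorphismProperty.pullback_snd _ _ inferInstance
  haveI : QuasiCompact A.hom := MorphismProperty.pullback_snd _ _ inferInstance
  haveI : QuasiSeparated A.hom := MorphismProperty.pullback_snd _ _ inferInstance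
  haveI : QuasiCompact (A ⊗ A).hom := by
    rw [show (A ⊗ A).hom = pullback.fst A.hom A.hom ≫ A.hom from rfl]; infer_instance
  haveI : QuasiSeparated (A ⊗ A).hom := by
    rw [show (A ⊗ A).hom = pullback.fst A.hom A.hom ≫ A.hom from rfl]; infer_instance
  haveI : CompactSpace (A ⊗ A).left := QuasiCompact.compactSpace_of_compactSpace (A ⊗ A).hom
  haveI : QuasiSeparatedSpace (A ⊗ A).left := quasiSeparatedSpace_of_quasiSeparated (A ⊗ A).hom
  haveI : CompactSpace (𝟙_ (Over (D.obj i))).left := ‹∀ i, CompactSpace (D.obj i)› i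
  haveI : QuasiSeparatedSpace (𝟙_ (Over (D.obj i))).left := ‹∀ i, QuasiSeparatedSpace (D.obj i)› i
  obtain ⟨k₁, g₁, e₁⟩ := exists_map_eq hc _ _ h1
  obtain ⟨k₂, g₂, e₂⟩ := exists_map_eq hc _ _ h2
  let k := IsCofiltered.min k₁ k₂
  obtain ⟨k', a, ha⟩ : ∃ (k' : I) (a : k' ⟶ k),
      a ≫ IsCofiltered.minToLeft k₁ k₂ ≫ g₁ = a ≫ IsCofiltered.minToRight k₁ k₂ ≫ g₂ :=
    ⟨_, _, IsCofiltered.eq_condition _ _⟩
  let g := a ≫ IsCofiltered.minToLeft k₁ k₂ ≫ g₁
  have push : ∀ {l : I} (b : l ⟶ i) (d : k' ⟶ l) (_ : d ≫ b = g) {X Y : Over (D.obj i)} (v w : X ⟶ Y),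
      (Over.pullback (D.map b)).map v = (Over.pullback (D.map b)).map w →
        (Over.pullback (D.map g)).map v = (Over.pullback (D.map g)).map w := fun {l} b d hd {X Y} v w h => by
    have e : D.map d ≫ D.map b = D.map g := by rw [← hd, Functor.map_comp]
    rw [← cancel_epi (cmp e X).hom, ← cmp_natural, ← cmp_natural, h]
  haveI : IsMonHom ((Over.pullback (D.map g)).map u₀) := (isMonHom_map_iff _ _).2
    ⟨push g₁ (a ≫ IsCofiltered.minToLeft k₁ k₂) (Category.assoc _ _ _) _ _ e₁,
      push g₂ (a ≫ IsCofiltered.minToRight k₁ k₂) ((Category.assoc _ _ _).trans ha.symm) _ _ e₂⟩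
  have e' : D.map g ≫ D.map f = D.map (g ≫ f) := (D.map_comp g f).symm
  refine ⟨k', g ≫ f, (cmp e' G).inv ≫ (Over.pullback (D.map g)).map u₀ ≫ (cmp e' H).hom, inferInstance, ?_⟩
  have K := congrArg (fun t => CommaMorphism.left t ≫ pullback.fst H.hom (c.π.app j)) hu₀
  simp only [Over.comp_left, Over.pullback_map_left, Category.assoc, cmp_fst, pullback.lift_fst_assoc] at K
  refine Over.OverMorphism.ext ?_
  apply pullback.hom_ext
  · simp only [Over.comp_left, Over.pullback_map_left, Category.assoc, cmp_fst, pullback.lift_fst_assoc]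
    let m : (Red.bc (c.π.app k') (Red.bc (D.map (g ≫ f)) G)).left ⟶ (Red.bc (c.π.app i) (Red.bc (D.map f) G)).left :=
      pullback.lift (pullback.fst _ (c.π.app k') ≫ (cmp e' G).inv.left ≫ pullback.fst _ (D.map g))
        (pullback.snd _ (c.π.app k')) (by
          have h3 := Over.w (cmp e' G).inv
          have h4 := pullback.condition (f := (Red.bc (D.map f) G).hom) (g := D.map g)
          simp only [Category.assoc]
          rw [h4, ← Category.assoc (cmp e' G).inv.left]
          erw [h3]
          erw [pullback.condition_assoc]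
          rw [comp_π])
    have hm : m ≫ (cmp (comp_π (c := c) f) G).hom.left = (cmp (comp_π (c := c) (g ≫ f)) G).hom.left := by
      apply pullback.hom_ext
      · simp only [Category.assoc, cmp_fst, m, pullback.lift_fst_assoc]
        have e2 : (cmp e' G).inv.left ≫ (cmp e' G).hom.left = 𝟙 _ := by
          rw [← Over.comp_left, Iso.inv_hom_id, Over.id_left]
        rw [← cmp_fst e' G, reassoc_of% e2]
      · simp only [Category.assoc, cmp_snd, m, pullback.lift_snd]
    refine Eq.trans ?_ (congrArg (· ≫ u.left ≫ pullback.fst H.hom (c.π.app j)) hm)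
    rw [Category.assoc m, ← K]
    simp [m, Category.assoc]
  · exact (Over.w _).trans (Over.w _).symm

end Lim

end Groth.Agent.GrpLimit2
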