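import Groth.Agent.Lib.GrpLimit2.Basic
import Groth.Agent.Lib.LimH13.DescendFP
import Mathlib.CategoryTheory.Monoidal.Cartesian.Grp

/-!
# Group schemes of finite presentation over a cofiltered limit come from a stage
-/

set_option autoImplicit false
set_option linter.style.haveILetI false
set_option backward.isDefEq.respectTransparency false
set_option backward.isDefEq.respectTransparency.types false
set_option maxHeartbeats 800000
set_option maxRecDepth 8000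

universe u

open CategoryTheory Limits AlgebraicGeometry MonoidalCategory CartesianMonoidalCategory MonObj GrpObj
open Functor.LaxMonoidal Functor.OplaxMonoidal

noncomputable section

namespace Groth.Agent.GrpLimit2

section Cat

variable {C : Type*} [Category C] [CartesianMonoidalCategory C] {E : Type*} [Category E]
  [CartesianMonoidalCategory E] (F : C ⥤ E) [F.Monoidal]

theorem images {G : E} [GrpObj G] {A : C} (ψ : F.obj A ≅ G) (m : A ⊗ A ⟶ A) (e : 𝟙_ C ⟶ A) (w : A ⟶ A)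
    (hm : F.map m ≫ ψ.hom = δ F A A ≫ (ψ.hom ⊗ₘ ψ.hom) ≫ μ[G])
    (he : F.map e ≫ ψ.hom = Functor.OplaxMonoidal.η F ≫ η[G])
    (hw : F.map w ≫ ψ.hom = ψ.hom ≫ ι[G]) :
    F.map ((e ▷ A) ≫ m) = F.map (λ_ A).hom ∧ F.map ((A ◁ e) ≫ m) = F.map (ρ_ A).hom ∧
      F.map ((m ▷ A) ≫ m) = F.map ((α_ A A A).hom ≫ (A ◁ m) ≫ m) ∧
      F.map (CartesianMonoidalCategory.lift w (𝟙 A) ≫ m) = F.map (toUnit A ≫ e) ∧
      F.map (CartesianMonoidalCategory.lift (𝟙 A) w ≫ m) = F.map (toUnit A ≫ e) := by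
  letI : GrpObj (F.obj A) := GrpObj.ofIso ψ.symm
  have hm' : F.map m = δ F A A ≫ μ[F.obj A] := by
    rw [← cancel_mono ψ.hom, hm]
    simp [MonObj.ofIso_mul]
  have he' : F.map e = Functor.OplaxMonoidal.η F ≫ η[F.obj A] := by
    rw [← cancel_mono ψ.hom, he]
    simp [MonObj.ofIso_one]
  have hw' : F.map w = ι[F.obj A] := by
    rw [← cancel_mono ψ.hom, hw]
    show _ = (ψ.hom ≫ ι[G] ≫ ψ.inv) ≫ ψ.hom
    simp
  refine ⟨?_, ?_, ?_, ?_, ?_⟩
  · simp [hm', he', ← δ_natural_left_assoc]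
  · simp [hm', he', ← δ_natural_right_assoc]
  · simp [hm', ← δ_natural_left_assoc, ← δ_natural_right_assoc]
  · simp [hm', he', hw', Functor.OplaxMonoidal.η_of_cartesianMonoidalCategory]
  · simp [hm', he', hw', Functor.OplaxMonoidal.η_of_cartesianMonoidalCategory]

/-- A group structure from the images of the axioms. -/
@[reducible] def grpOfImages {A : C} (m : A ⊗ A ⟶ A) (e : 𝟙_ C ⟶ A) (w : A ⟶ A)
    (h1 : F.map ((e ▷ A) ≫ m) = F.map (λ_ A).hom) (h2 : F.map ((A ◁ e) ≫ m) = F.map (ρ_ A).hom)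
    (h3 : F.map ((m ▷ A) ≫ m) = F.map ((α_ A A A).hom ≫ (A ◁ m) ≫ m))
    (h4 : F.map (CartesianMonoidalCategory.lift w (𝟙 A) ≫ m) = F.map (toUnit A ≫ e))
    (h5 : F.map (CartesianMonoidalCategory.lift (𝟙 A) w ≫ m) = F.map (toUnit A ≫ e)) :
    GrpObj (F.obj A) where
  one := ε F ≫ F.map e
  mul := Functor.LaxMonoidal.μ F A A ≫ F.map m
  one_mul := by
    simp only [Functor.map_comp] at h1
    simp [μ_natural_left_assoc, h1]
  mul_one := by
    simp only [Functor.map_comp] at h2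
    simp [μ_natural_right_assoc, h2]
  mul_assoc := by
    simp only [Functor.map_comp] at h3
    simp [μ_natural_left_assoc, μ_natural_right_assoc, h3]
  inv := F.map w
  left_inv := by
    simp only [Functor.map_comp] at h4
    rw [Functor.Monoidal.toUnit_ε_assoc, ← h4, ← F.map_id A, Functor.Monoidal.lift_μ_assoc]
  right_inv := by
    simp only [Functor.map_comp] at h5
    rw [Functor.Monoidal.toUnit_ε_assoc, ← h5, ← F.map_id A, Functor.Monoidal.lift_μ_assoc]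

end Cat

section Mult

variable {S S' P : Scheme.{u}} {f : P ⟶ S'} {g : S' ⟶ S} {h : P ⟶ S} (hfg : f ≫ g = h)

/-- The comparison is compatible with products. -/
theorem cmp_μ (X Y : Over S) :
    Functor.LaxMonoidal.μ (Over.pullback f) ((Over.pullback g).obj X) ((Over.pullback g).obj Y) ≫
        (Over.pullback f).map (Functor.LaxMonoidal.μ (Over.pullback g) X Y) ≫ (cmp hfg (X ⊗ Y)).hom =
      ((cmp hfg X).hom ⊗ₘ (cmp hfg Y).hom) ≫ Functor.LaxMonoidal.μ (Over.pullback h) X Y := by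
  rw [← cancel_mono (δ (Over.pullback h) X Y)]
  apply CartesianMonoidalCategory.hom_ext
  · simp only [Category.assoc, δ_fst, Functor.Monoidal.μ_fst, tensorHom_fst]
    rw [← cmp_natural hfg (fst X Y), ← Functor.map_comp_assoc, Functor.Monoidal.μ_fst,
      ← Category.assoc, Functor.Monoidal.μ_fst]
  · simp only [Category.assoc, δ_snd, Functor.Monoidal.μ_snd, tensorHom_snd]
    rw [← cmp_natural hfg (snd X Y), ← Functor.map_comp_assoc, Functor.Monoidal.μ_snd,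
      ← Category.assoc, Functor.Monoidal.μ_snd]

theorem cmp_δ (X Y : Over S) :
    (Over.pullback f).map (Functor.LaxMonoidal.μ (Over.pullback g) X Y) ≫ (cmp hfg (X ⊗ Y)).hom =
      δ (Over.pullback f) ((Over.pullback g).obj X) ((Over.pullback g).obj Y) ≫
        ((cmp hfg X).hom ⊗ₘ (cmp hfg Y).hom) ≫ Functor.LaxMonoidal.μ (Over.pullback h) X Y := by
  rw [← cmp_μ hfg X Y, Functor.Monoidal.δ_μ_assoc]

theorem cmp_ε :
    (Over.pullback f).map (ε (Over.pullback g)) ≫ (cmp hfg (𝟙_ (Over S))).hom =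
      Functor.OplaxMonoidal.η (Over.pullback f) ≫ ε (Over.pullback h) := by
  rw [← cancel_mono (Functor.OplaxMonoidal.η (Over.pullback h))]
  exact toUnit_unique _ _

end Mult

section Descend

variable {S S' P : Scheme.{u}} {f : P ⟶ S'} {g : S' ⟶ S} {h : P ⟶ S} (hfg : f ≫ g = h)

theorem isMonHom_model {G : Over P} [GrpObj G] {A : Over S} (ψ : Red.bc h A ≅ G)
    (m : A ⊗ A ⟶ A) (e : 𝟙_ (Over S) ⟶ A) [GrpObj (Red.bc g A)]
    (hBm : μ[Red.bc g A] = Functor.LaxMonoidal.μ (Over.pullback g) A A ≫ (Over.pullback g).map m)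
    (hBe : η[Red.bc g A] = ε (Over.pullback g) ≫ (Over.pullback g).map e)
    (hm : (Over.pullback h).map m ≫ ψ.hom = δ (Over.pullback h) A A ≫ (ψ.hom ⊗ₘ ψ.hom) ≫ μ[G])
    (he : (Over.pullback h).map e ≫ ψ.hom = Functor.OplaxMonoidal.η (Over.pullback h) ≫ η[G]) :
    IsMonHom ((cmp hfg A).hom ≫ ψ.hom) := by
  refine ⟨?_, ?_⟩
  · rw [show η[Red.bc f (Red.bc g A)] = ε (Over.pullback f) ≫ (Over.pullback f).map η[Red.bc g A] from rfl]
    rw [hBe, Functor.map_comp]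
    simp only [Category.assoc]
    rw [reassoc_of% (cmp_natural hfg e), he, reassoc_of% (cmp_ε hfg)]
    simp
  · rw [show μ[Red.bc f (Red.bc g A)] = Functor.LaxMonoidal.μ (Over.pullback f) _ _ ≫ (Over.pullback f).map μ[Red.bc g A] from rfl]
    rw [hBm, Functor.map_comp]
    simp only [Category.assoc]
    rw [reassoc_of% (cmp_natural hfg m), hm, reassoc_of% (cmp_μ hfg A A)]
    simp [tensorHom_comp_tensorHom_assoc, tensorHom_comp_tensorHom]

theorem stage_step {G : Over P} [GrpObj G] {P₀ : Over S} (ψ : Red.bc h P₀ ≅ G)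
    (w₁ : Red.bc g (P₀ ⊗ P₀) ⟶ Red.bc g P₀) (w₂ : Red.bc g (𝟙_ (Over S)) ⟶ Red.bc g P₀)
    (w₃ : Red.bc g P₀ ⟶ Red.bc g P₀)
    (hw₁ : (Over.pullback f).map w₁ ≫ (cmp hfg P₀).hom =
      (cmp hfg (P₀ ⊗ P₀)).hom ≫ δ (Over.pullback h) P₀ P₀ ≫ (ψ.hom ⊗ₘ ψ.hom) ≫ μ[G] ≫ ψ.inv)
    (hw₂ : (Over.pullback f).map w₂ ≫ (cmp hfg P₀).hom =
      (cmp hfg (𝟙_ (Over S))).hom ≫ Functor.OplaxMonoidal.η (Over.pullback h) ≫ η[G] ≫ ψ.inv)
    (hw₃ : (Over.pullback f).map w₃ ≫ (cmp hfg P₀).hom = (cmp hfg P₀).hom ≫ ψ.hom ≫ ι[G] ≫ ψ.inv) :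
    ∃ (ψ₁ : Red.bc f (Red.bc g P₀) ≅ G) (m : Red.bc g P₀ ⊗ Red.bc g P₀ ⟶ Red.bc g P₀)
      (e : 𝟙_ (Over S') ⟶ Red.bc g P₀) (w : Red.bc g P₀ ⟶ Red.bc g P₀),
      (Over.pullback f).map m ≫ ψ₁.hom = δ (Over.pullback f) _ _ ≫ (ψ₁.hom ⊗ₘ ψ₁.hom) ≫ μ[G] ∧
      (Over.pullback f).map e ≫ ψ₁.hom = Functor.OplaxMonoidal.η (Over.pullback f) ≫ η[G] ∧
      (Over.pullback f).map w ≫ ψ₁.hom = ψ₁.hom ≫ ι[G] := by
  refine ⟨cmp hfg P₀ ≪≫ ψ, Functor.LaxMonoidal.μ (Over.pullback g) P₀ P₀ ≫ w₁, ε (Over.pullback g) ≫ w₂, w₃,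
    ?_, ?_, ?_⟩
  · simp only [Iso.trans_hom, Functor.map_comp, Category.assoc]
    rw [reassoc_of% hw₁, reassoc_of% (cmp_δ hfg P₀ P₀)]
    simp [tensorHom_comp_tensorHom_assoc, tensorHom_comp_tensorHom]
  · simp only [Iso.trans_hom, Functor.map_comp, Category.assoc]
    rw [reassoc_of% hw₂, reassoc_of% (cmp_ε hfg)]
    simp
  · simp only [Iso.trans_hom, Category.assoc]
    rw [reassoc_of% hw₃]
    simp

end Descend

section Lim

variable {I : Type u} [SmallCategory I] [IsCofiltered I] {D : I ⥤ Scheme.{u}} {c : Cone D}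
  [∀ {i j : I} (a : i ⟶ j), IsAffineHom (D.map a)]

/-- A morphism defined at a stage, moved to a later one. -/
theorem exists_push {j l k : I} (b : l ⟶ j) (d : k ⟶ l) (g : k ⟶ j) (hd : d ≫ b = g) {X Y : Over (D.obj j)}
    (v : Red.bc (D.map b) X ⟶ Red.bc (D.map b) Y) (u : Red.bc (c.π.app j) X ⟶ Red.bc (c.π.app j) Y)
    (hv : (Over.pullback (c.π.app l)).map v ≫ (cmp (comp_π b) Y).hom = (cmp (comp_π b) X).hom ≫ u) :
    ∃ w : Red.bc (D.map g) X ⟶ Red.bc (D.map g) Y,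
      (Over.pullback (c.π.app k)).map w ≫ (cmp (comp_π g) Y).hom = (cmp (comp_π g) X).hom ≫ u := by
  subst hd
  have e' : D.map d ≫ D.map b = D.map (d ≫ b) := (D.map_comp d b).symm
  refine ⟨(cmp e' X).inv ≫ (Over.pullback (D.map d)).map v ≫ (cmp e' Y).hom, ?_⟩
  have K := congrArg (fun t => CommaMorphism.left t ≫ pullback.fst Y.hom (c.π.app j)) hv
  simp only [Over.comp_left, Over.pullback_map_left, Category.assoc, cmp_fst, pullback.lift_fst_assoc] at K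
  refine Over.OverMorphism.ext ?_
  apply pullback.hom_ext
  · simp only [Over.comp_left, Over.pullback_map_left, Category.assoc, cmp_fst, pullback.lift_fst_assoc]
    let m : (Red.bc (c.π.app k) (Red.bc (D.map (d ≫ b)) X)).left ⟶
        (Red.bc (c.π.app l) (Red.bc (D.map b) X)).left :=
      pullback.lift (pullback.fst _ (c.π.app k) ≫ (cmp e' X).inv.left ≫ pullback.fst _ (D.map d))
        (pullback.snd _ (c.π.app k)) (by
          have h3 := Over.w (cmp e' X).inv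
          have h4 := pullback.condition (f := (Red.bc (D.map b) X).hom) (g := D.map d)
          simp only [Category.assoc]
          rw [h4, ← Category.assoc (cmp e' X).inv.left]
          erw [h3]
          erw [pullback.condition_assoc]
          rw [comp_π])
    have hm : m ≫ (cmp (comp_π (c := c) b) X).hom.left = (cmp (comp_π (c := c) (d ≫ b)) X).hom.left := by
      apply pullback.hom_ext
      · simp only [Category.assoc, cmp_fst, m, pullback.lift_fst_assoc]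
        have e2 : (cmp e' X).inv.left ≫ (cmp e' X).hom.left = 𝟙 _ := by
          rw [← Over.comp_left, Iso.inv_hom_id, Over.id_left]
        rw [← cmp_fst e' X, reassoc_of% e2]
      · simp only [Category.assoc, cmp_snd, m, pullback.lift_snd]
    refine Eq.trans ?_ (congrArg (· ≫ u.left ≫ pullback.fst Y.hom (c.π.app j)) hm)
    rw [Category.assoc m, ← K]
    simp [m, Category.assoc]
  · exact (Over.w _).trans (Over.w _).symm

/-- Group schemes of finite presentation over the limit come from a stage. -/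
theorem exists_grp_model (hc : IsLimit c) [∀ i, CompactSpace (D.obj i)] [∀ i, QuasiSeparatedSpace (D.obj i)]
    (G : Over c.pt) [GrpObj G] [LocallyOfFinitePresentation G.hom] [CompactSpace G.left] [QuasiSeparatedSpace G.left] :
    ∃ (j : I) (Gj : Over (D.obj j)) (_ : GrpObj Gj) (e : G ≅ Red.bc (c.π.app j) Gj),
      IsMonHom e.hom ∧ LocallyOfFinitePresentation Gj.hom ∧ QuasiCompact Gj.hom ∧ QuasiSeparated Gj.hom := by
  classical
  obtain ⟨i, P, p, q, hp, hPc, hPq, hpb⟩ := LimH13.hasModel_of_finitePresentation hc G.hom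
  let P₀ : Over (D.obj i) := Over.mk p
  haveI : LocallyOfFinitePresentation P₀.hom := hp
  haveI : CompactSpace P₀.left := hPc
  haveI : QuasiSeparatedSpace P₀.left := hPq
  haveI : QuasiCompact P₀.hom := quasiCompact_of_compactSpace P₀.hom
  let ψ : Red.bc (c.π.app i) P₀ ≅ G := Over.isoMk hpb.isoPullback.symm (hpb.isoPullback_inv_snd)
  haveI hcT : ∀ {k : I} (A B : Over (D.obj k)) [QuasiCompact A.hom] [QuasiCompact B.hom]
      [QuasiSeparated A.hom] [QuasiSeparated B.hom], CompactSpace (A ⊗ B).left ∧ QuasiSeparatedSpace (A ⊗ B).left := by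
    intro k A B _ _ _ _
    haveI : QuasiCompact (A ⊗ B).hom := by
      rw [show (A ⊗ B).hom = pullback.fst A.hom B.hom ≫ A.hom from rfl]; infer_instance
    haveI : QuasiSeparated (A ⊗ B).hom := by
      rw [show (A ⊗ B).hom = pullback.fst A.hom B.hom ≫ A.hom from rfl]; infer_instance
    exact ⟨QuasiCompact.compactSpace_of_compactSpace (A ⊗ B).hom,
      quasiSeparatedSpace_of_quasiSeparated (A ⊗ B).hom⟩
  haveI : QuasiSeparated P₀.hom := inferInstance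
  haveI := (hcT P₀ P₀).1
  haveI := (hcT P₀ P₀).2
  haveI : CompactSpace (𝟙_ (Over (D.obj i))).left := ‹∀ i, CompactSpace (D.obj i)› i
  haveI : QuasiSeparatedSpace (𝟙_ (Over (D.obj i))).left := ‹∀ i, QuasiSeparatedSpace (D.obj i)› i
  let F := Over.pullback (c.π.app i)
  obtain ⟨l₁, b₁, v₁, hv₁⟩ := exists_descend (A := P₀ ⊗ P₀) (B := P₀) hc
    (δ F P₀ P₀ ≫ (ψ.hom ⊗ₘ ψ.hom) ≫ μ[G] ≫ ψ.inv)
  obtain ⟨l₂, b₂, v₂, hv₂⟩ := exists_descend (A := 𝟙_ (Over (D.obj i))) (B := P₀) hc (Functor.OplaxMonoidal.η F ≫ η[G] ≫ ψ.inv)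
  obtain ⟨l₃, b₃, v₃, hv₃⟩ := exists_descend (A := P₀) (B := P₀) hc (ψ.hom ≫ ι[G] ≫ ψ.inv)
  obtain ⟨k₁, d₁, d₂, hd⟩ : ∃ (k : I) (d₁ : k ⟶ l₁) (d₂ : k ⟶ l₂), d₁ ≫ b₁ = d₂ ≫ b₂ := ⟨_, _, _, (IsCofiltered.cospan b₁ b₂).choose_spec.choose_spec.choose_spec⟩
  obtain ⟨k, e₁, e₃, he⟩ : ∃ (k : I) (e₁ : k ⟶ k₁) (e₃ : k ⟶ l₃), e₁ ≫ d₁ ≫ b₁ = e₃ ≫ b₃ :=
    ⟨_, _, _, (IsCofiltered.cospan (d₁ ≫ b₁) b₃).choose_spec.choose_spec.choose_spec⟩
  obtain ⟨g, hg⟩ : ∃ g : k ⟶ i, g = e₁ ≫ d₁ ≫ b₁ := ⟨_, rfl⟩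
  obtain ⟨w₁, hw₁⟩ := exists_push b₁ (e₁ ≫ d₁) g (by rw [hg, Category.assoc]) v₁ _ hv₁
  obtain ⟨w₂, hw₂⟩ := exists_push b₂ (e₁ ≫ d₂) g (by rw [hg, Category.assoc, ← hd]) v₂ _ hv₂
  obtain ⟨w₃, hw₃⟩ := exists_push b₃ e₃ g (hg.trans he).symm v₃ _ hv₃
  obtain ⟨ψ₁, m, e, w, hm, he', hι⟩ := stage_step (comp_π (c := c) g) ψ w₁ w₂ w₃ hw₁ hw₂ hw₃
  obtain ⟨q1, q2, q3, q4, q5⟩ := images (Over.pullback (c.π.app k)) ψ₁ m e w hm he' hι
  generalize hA : Red.bc (D.map g) P₀ = A at ψ₁ m e w hm he' hι q1 q2 q3 q4 q5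
  have hfp : QuasiCompact A.hom ∧ QuasiSeparated A.hom ∧ LocallyOfFinitePresentation A.hom := by
    subst hA
    exact ⟨MorphismProperty.pullback_snd _ _ inferInstance, MorphismProperty.pullback_snd _ _ inferInstance,
      MorphismProperty.pullback_snd _ _ inferInstance⟩
  haveI := hfp.1
  haveI := hfp.2.1
  haveI := hfp.2.2
  haveI : CompactSpace A.left := QuasiCompact.compactSpace_of_compactSpace A.hom
  haveI : QuasiSeparatedSpace A.left := quasiSeparatedSpace_of_quasiSeparated A.hom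
  haveI hI : QuasiCompact (𝟙_ (Over (D.obj k))).hom := inferInstanceAs (QuasiCompact (𝟙 _))
  haveI hI' : QuasiSeparated (𝟙_ (Over (D.obj k))).hom := inferInstanceAs (QuasiSeparated (𝟙 _))
  haveI hAA : QuasiCompact (A ⊗ A).hom := by
    rw [show (A ⊗ A).hom = pullback.fst A.hom A.hom ≫ A.hom from rfl]; infer_instance
  haveI hAA' : QuasiSeparated (A ⊗ A).hom := by
    rw [show (A ⊗ A).hom = pullback.fst A.hom A.hom ≫ A.hom from rfl]; infer_instance
  haveI := (hcT (𝟙_ (Over (D.obj k))) A).1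
  haveI := (hcT (𝟙_ (Over (D.obj k))) A).2
  haveI := (hcT A (𝟙_ (Over (D.obj k)))).1
  haveI := (hcT A (𝟙_ (Over (D.obj k)))).2
  haveI := (hcT (A ⊗ A) A).1
  haveI := (hcT (A ⊗ A) A).2
  obtain ⟨n₁, a₁, p₁⟩ := exists_map_eq hc _ _ q1
  obtain ⟨n₂, a₂, p₂⟩ := exists_map_eq hc _ _ q2
  obtain ⟨n₃, a₃, p₃⟩ := exists_map_eq hc _ _ q3
  obtain ⟨n₄, a₄, p₄⟩ := exists_map_eq hc _ _ q4
  obtain ⟨n₅, a₅, p₅⟩ := exists_map_eq hc _ _ q5
  obtain ⟨n, a, ha⟩ : ∃ (n : I) (a : n ⟶ k), ∀ (l : I) (b : l ⟶ k),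
      (⟨l, b⟩ : Σ l, l ⟶ k) ∈ ([⟨n₁, a₁⟩, ⟨n₂, a₂⟩, ⟨n₃, a₃⟩, ⟨n₄, a₄⟩, ⟨n₅, a₅⟩] : List (Σ l, l ⟶ k)) →
        ∃ d : n ⟶ l, d ≫ b = a := by
    suffices h : ∀ L : List (Σ l, l ⟶ k), ∃ (n : I) (a : n ⟶ k), ∀ x ∈ L, ∃ d : n ⟶ x.1, d ≫ x.2 = a by
      obtain ⟨n, a, h⟩ := h _
      exact ⟨n, a, fun l b hb => h _ hb⟩
    intro L
    induction L with
    | nil => exact ⟨k, 𝟙 k, by simp⟩
    | cons x L ih =>
      obtain ⟨n, a, h⟩ := ih
      obtain ⟨n', u, v, huv⟩ := IsCofiltered.cospan x.2 a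
      refine ⟨n', v ≫ a, fun y hy => ?_⟩
      rcases List.mem_cons.1 hy with rfl | hy
      · exact ⟨u, huv⟩
      · obtain ⟨d, hd⟩ := h y hy
        exact ⟨v ≫ d, by rw [Category.assoc, hd]⟩
  have push : ∀ {l : I} (b : l ⟶ k) (d : n ⟶ l) (_ : d ≫ b = a) {X Y : Over (D.obj k)} (v w : X ⟶ Y),
      (Over.pullback (D.map b)).map v = (Over.pullback (D.map b)).map w →
        (Over.pullback (D.map a)).map v = (Over.pullback (D.map a)).map w := fun {l} b d hd {X Y} v w h => by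
    have e : D.map d ≫ D.map b = D.map a := by rw [← hd, Functor.map_comp]
    rw [← cancel_epi (cmp e X).hom, ← cmp_natural, ← cmp_natural, h]
  obtain ⟨d, hd⟩ := ha _ _ (List.mem_cons_self ..)
  have r1 := push a₁ d hd _ _ p₁
  obtain ⟨d, hd⟩ := ha n₂ a₂ (by simp)
  have r2 := push a₂ d hd _ _ p₂
  obtain ⟨d, hd⟩ := ha n₃ a₃ (by simp)
  have r3 := push a₃ d hd _ _ p₃
  obtain ⟨d, hd⟩ := ha n₄ a₄ (by simp)
  have r4 := push a₄ d hd _ _ p₄
  obtain ⟨d, hd⟩ := ha n₅ a₅ (by simp)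
  have r5 := push a₅ d hd _ _ p₅
  letI gB : GrpObj (Red.bc (D.map a) A) := grpOfImages (Over.pullback (D.map a)) m e w r1 r2 r3 r4 r5
  haveI : IsMonHom ((cmp (comp_π (c := c) a) A).hom ≫ ψ₁.hom) :=
    isMonHom_model (comp_π (c := c) a) ψ₁ m e rfl rfl hm he'
  haveI : LocallyOfFinitePresentation (Red.bc (D.map a) A).hom := MorphismProperty.pullback_snd _ _ inferInstance
  haveI : IsMonHom (cmp (comp_π (c := c) a) A ≪≫ ψ₁).hom := by rw [Iso.trans_hom]; assumption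
  exact ⟨n, Red.bc (D.map a) A, gB, (cmp (comp_π (c := c) a) A ≪≫ ψ₁).symm,
    (by rw [Iso.symm_hom]; infer_instance), inferInstance,
    MorphismProperty.pullback_snd _ _ inferInstance, MorphismProperty.pullback_snd _ _ inferInstance⟩

end Lim

end Groth.Agent.GrpLimit2
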