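import Groth.Agent.Lib.GrpLimit2.Stage
import Groth.Agent.Lib.FppfSource.Scheme

/-!
# Quotients of pairs of morphisms over a limit come from a stage
-/

set_option autoImplicit false
set_option linter.style.haveILetI false
set_option backward.isDefEq.respectTransparency false
set_option backward.isDefEq.respectTransparency.types false

universe u

open CategoryTheory Limits AlgebraicGeometry MonoidalCategory CartesianMonoidalCategory TopologicalSpace

noncomputable section

namespace Groth.Agent.GrpLimit2

/-- A pair of morphisms is the kernel pair of an fppf morphism. -/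
def HasQ {S : Scheme.{u}} {R X : Over S} (s t : R ⟶ X) : Prop :=
  ∃ (Y : Over S) (p : X ⟶ Y), Flat p.left ∧ Surjective p.left ∧ LocallyOfFinitePresentation p.left ∧
    IsPullback s t p p

theorem HasQ.of_iso {S : Scheme.{u}} {R X R' X' : Over S} {s t : R ⟶ X} (h : HasQ s t) {s' t' : R' ⟶ X'}
    (eR : R' ≅ R) (eX : X' ≅ X) (hs : eR.hom ≫ s = s' ≫ eX.hom) (ht : eR.hom ≫ t = t' ≫ eX.hom) :
    HasQ s' t' := by
  obtain ⟨Y, p, h1, h2, h3, h4⟩ := h
  haveI : IsIso eX.hom.left := inferInstanceAs (IsIso ((Over.forget S).map eX.hom))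
  haveI := h1
  haveI := h2
  haveI := h3
  exact ⟨Y, eX.hom ≫ p, by rw [Over.comp_left]; infer_instance, by rw [Over.comp_left]; infer_instance,
    by rw [Over.comp_left]; infer_instance,
    h4.of_iso' eR eX eX (Iso.refl Y) hs ht (by simp) (by simp)⟩

theorem HasQ.map {S S' : Scheme.{u}} (g : S' ⟶ S) {R X : Over S} {s t : R ⟶ X} (h : HasQ s t) :
    HasQ ((Over.pullback g).map s) ((Over.pullback g).map t) := by
  obtain ⟨Y, p, h1, h2, h3, h4⟩ := h
  exact ⟨_, (Over.pullback g).map p, of_map_left @Flat g p h1, of_map_left @Surjective g p h2,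
    of_map_left @LocallyOfFinitePresentation g p h3, h4.map _⟩

/-- The quotient of a pair with quasi-compact total space is quasi-compact and quasi-separated, of finite
presentation. -/
theorem props_of_isPullback {S : Scheme.{u}} {R X Y : Over S} {s t : R ⟶ X} (p : X ⟶ Y)
    [CompactSpace X.left] [QuasiSeparatedSpace X.left] [QuasiCompact t.left]
    [LocallyOfFinitePresentation X.hom] [Flat p.left] [Surjective p.left] [LocallyOfFinitePresentation p.left]
    (h : IsPullback s t p p) :
    CompactSpace Y.left ∧ QuasiSeparatedSpace Y.left ∧ LocallyOfFinitePresentation Y.hom := by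
  have h' : IsPullback s.left t.left p.left p.left := h.map (Over.forget S)
  have hop : IsOpenMap p.left := p.left.isOpenMap
  have hsurj : Function.Surjective p.left := p.left.surjective
  have hc : ∀ U : Y.left.Opens, IsCompact (U : Set Y.left) → IsCompact (p.left ⁻¹' (U : Set Y.left)) := by
    intro U hU
    obtain ⟨W, hW, hWU⟩ : ∃ W : X.left.Opens, IsCompact (W : Set X.left) ∧ p.left '' (W : Set X.left) = U := by
      choose V hV hxV hVU using fun x : (p.left ⁻¹ᵁ U) => exists_isAffineOpen_mem_and_subset (X := X.left) x.2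
      obtain ⟨F, hF⟩ := hU.elim_finite_subcover (fun x : (p.left ⁻¹ᵁ U) => p.left '' (V x : Set X.left))
        (fun x => hop _ (V x).2) (fun y hy => by
          obtain ⟨x, rfl⟩ := hsurj y
          exact Set.mem_iUnion.2 ⟨⟨x, hy⟩, x, hxV _, rfl⟩)
      refine ⟨⨆ x : F, V x.1, ?_, ?_⟩
      · rw [Opens.coe_iSup]; exact isCompact_iUnion fun x => (hV x.1).isCompact
      · apply le_antisymm
        · rintro _ ⟨x, hx, rfl⟩
          obtain ⟨w, hw⟩ := Opens.mem_iSup.1 hx
          exact hVU w.1 hw
        · intro y hy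
          obtain ⟨x, hx, z, hz, rfl⟩ := Set.mem_iUnion₂.1 (hF hy)
          exact ⟨z, Opens.mem_iSup.2 ⟨⟨x, hx⟩, hz⟩, rfl⟩
    have he : p.left ⁻¹' (U : Set Y.left) = s.left '' (t.left ⁻¹' (W : Set X.left)) := by
      ext x
      constructor
      · intro hx
        rw [Set.mem_preimage, ← hWU] at hx
        obtain ⟨w, hw, he⟩ := hx
        obtain ⟨z, hz1, hz2⟩ := Scheme.Pullback.exists_preimage_pullback (f := p.left) (g := p.left) x w he.symm
        refine ⟨h'.isoPullback.inv z, ?_, ?_⟩
        · show t.left (h'.isoPullback.inv z) ∈ W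
          rw [← Scheme.Hom.comp_apply, h'.isoPullback_inv_snd, hz2]
          exact hw
        · rw [← Scheme.Hom.comp_apply, h'.isoPullback_inv_fst, hz1]
      · rintro ⟨r, hr, rfl⟩
        rw [Set.mem_preimage, ← Scheme.Hom.comp_apply, h'.w, Scheme.Hom.comp_apply, ← hWU]
        exact ⟨_, hr, rfl⟩
    rw [he]
    exact (t.left.isCompact_preimage hW).image s.left.continuous
  have himg : ∀ T : Set Y.left, p.left '' (p.left ⁻¹' T) = T := fun T => Set.image_preimage_eq T hsurj
  refine ⟨⟨?_⟩, ⟨fun U V hUo hUc hVo hVc => ?_⟩, ?_⟩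
  · rw [← himg Set.univ, Set.preimage_univ]
    exact isCompact_univ.image p.left.continuous
  · rw [← himg (U ∩ V), Set.preimage_inter]
    exact (QuasiSeparatedSpace.inter_isCompact _ _ (hUo.preimage p.left.continuous) (hc ⟨U, hUo⟩ hUc)
      (hVo.preimage p.left.continuous) (hc ⟨V, hVo⟩ hVc)).image p.left.continuous
  · haveI : LocallyOfFinitePresentation (p.left ≫ Y.hom) := by rw [Over.w p]; infer_instance
    exact FppfSource.locallyOfFinitePresentation_of_fppf_comp p.left Y.hom

variable {I : Type u} [SmallCategory I] [IsCofiltered I] {D : I ⥤ Scheme.{u}} {c : Cone D}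
  [∀ {i j : I} (a : i ⟶ j), IsAffineHom (D.map a)]

/-- A quotient at a later stage is a quotient at a stage. -/
theorem hasQ_trans {i k l : I} (f : k ⟶ i) (g : l ⟶ k) {R X : Over (D.obj i)} {s t : R ⟶ X}
    (h : HasQ ((Over.pullback (D.map g)).map ((Over.pullback (D.map f)).map s))
      ((Over.pullback (D.map g)).map ((Over.pullback (D.map f)).map t))) :
    HasQ ((Over.pullback (D.map (g ≫ f))).map s) ((Over.pullback (D.map (g ≫ f))).map t) :=
  h.of_iso (cmp (d_comp g f) R).symm (cmp (d_comp g f) X).symm
    (by simp only [Iso.symm_hom]; rw [Iso.inv_comp_eq, ← Category.assoc, Iso.eq_comp_inv, cmp_natural])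
    (by simp only [Iso.symm_hom]; rw [Iso.inv_comp_eq, ← Category.assoc, Iso.eq_comp_inv, cmp_natural])

/-- The quotient descends when the morphism is given at the stage. -/
theorem hasQ_of_stage (hc : IsLimit c) [∀ i, CompactSpace (D.obj i)] [∀ i, QuasiSeparatedSpace (D.obj i)]
    {i : I} {R X Y : Over (D.obj i)} (s t : R ⟶ X) (v : X ⟶ Y)
    [LocallyOfFinitePresentation R.hom] [QuasiCompact R.hom] [QuasiSeparated R.hom]
    [LocallyOfFinitePresentation X.hom] [QuasiCompact X.hom] [QuasiSeparated X.hom]
    [LocallyOfFinitePresentation Y.hom] [QuasiCompact Y.hom] [QuasiSeparated Y.hom]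
    (hfl : Flat ((Over.pullback (c.π.app i)).map v).left) (hsu : Surjective ((Over.pullback (c.π.app i)).map v).left)
    (hsq : IsPullback ((Over.pullback (c.π.app i)).map s) ((Over.pullback (c.π.app i)).map t)
      ((Over.pullback (c.π.app i)).map v) ((Over.pullback (c.π.app i)).map v)) :
    ∃ (k : I) (f : k ⟶ i), HasQ ((Over.pullback (D.map f)).map s) ((Over.pullback (D.map f)).map t) := by
  haveI : CompactSpace R.left := QuasiCompact.compactSpace_of_compactSpace R.hom
  haveI : QuasiSeparatedSpace R.left := quasiSeparatedSpace_of_quasiSeparated R.hom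
  haveI : CompactSpace X.left := QuasiCompact.compactSpace_of_compactSpace X.hom
  haveI : QuasiSeparatedSpace X.left := quasiSeparatedSpace_of_quasiSeparated X.hom
  obtain ⟨k₁, f₁, hf, hs⟩ := exists_flat_surjective hc v hfl hsu
  obtain ⟨k₂, f₂, he⟩ := exists_map_eq hc (s ≫ v) (t ≫ v) (by rw [Functor.map_comp, Functor.map_comp]; exact hsq.w)
  obtain ⟨k, a, b, hab⟩ := IsCofiltered.cospan f₁ f₂
  have hflk : Flat ((Over.pullback (D.map (a ≫ f₁))).map v).left :=
    ((MorphismProperty.arrow_iso_iff @Flat ((Arrow.isoMk' _ _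
      ((Over.forget _).mapIso (cmp (d_comp a f₁) X)) ((Over.forget _).mapIso (cmp (d_comp a f₁) Y))
      (congrArg CommaMorphism.left (cmp_natural (d_comp (D := D) a f₁) v)).symm)))).1
      (of_map_left @Flat (D.map a) _ hf)
  have hsuk : Surjective ((Over.pullback (D.map (a ≫ f₁))).map v).left :=
    ((MorphismProperty.arrow_iso_iff @Surjective ((Arrow.isoMk' _ _
      ((Over.forget _).mapIso (cmp (d_comp a f₁) X)) ((Over.forget _).mapIso (cmp (d_comp a f₁) Y))
      (congrArg CommaMorphism.left (cmp_natural (d_comp (D := D) a f₁) v)).symm)))).1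
      (of_map_left @Surjective (D.map a) _ hs)
  have hek : (Over.pullback (D.map (a ≫ f₁))).map (s ≫ v) = (Over.pullback (D.map (a ≫ f₁))).map (t ≫ v) := by
    rw [hab]; exact map_eq_of_le he
  obtain ⟨f, hfk⟩ : ∃ f : k ⟶ i, f = a ≫ f₁ := ⟨_, rfl⟩
  rw [← hfk] at hflk hsuk hek
  have key : ∀ (R' X' Y' : Over (D.obj k)) (s' t' : R' ⟶ X') (v' : X' ⟶ Y'),
      LocallyOfFinitePresentation R'.hom → QuasiCompact R'.hom → QuasiSeparated R'.hom →
      LocallyOfFinitePresentation X'.hom → QuasiCompact X'.hom → QuasiSeparated X'.hom →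
      LocallyOfFinitePresentation Y'.hom → QuasiCompact Y'.hom → QuasiSeparated Y'.hom →
      Flat v'.left → Surjective v'.left → s' ≫ v' = t' ≫ v' →
      IsPullback ((Over.pullback (c.π.app k)).map s') ((Over.pullback (c.π.app k)).map t')
        ((Over.pullback (c.π.app k)).map v') ((Over.pullback (c.π.app k)).map v') →
      ∃ (l : I) (g : l ⟶ k), HasQ ((Over.pullback (D.map g)).map s') ((Over.pullback (D.map g)).map t') := by
    intro R' X' Y' s' t' v' _ _ _ _ _ _ _ _ _ _ _ hw hsq'
    haveI : LocallyOfFinitePresentation (v'.left ≫ Y'.hom) := by rw [Over.w v']; infer_instance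
    haveI : LocallyOfFinitePresentation v'.left := SchBasic.locallyOfFinitePresentation_of_comp v'.left Y'.hom
    haveI : QuasiCompact (v'.left ≫ Y'.hom) := by rw [Over.w v']; infer_instance
    haveI : QuasiSeparated (v'.left ≫ Y'.hom) := by rw [Over.w v']; infer_instance
    haveI : QuasiCompact v'.left := QuasiCompact.of_comp v'.left Y'.hom
    haveI : QuasiSeparated v'.left := QuasiSeparated.of_comp v'.left Y'.hom
    let K : Over (D.obj k) := Over.mk (pullback.fst v'.left v'.left ≫ X'.hom)
    let a₁ : K ⟶ X' := Over.homMk (pullback.fst v'.left v'.left) rfl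
    let a₂ : K ⟶ X' := Over.homMk (pullback.snd v'.left v'.left) (by
      show _ = pullback.fst v'.left v'.left ≫ X'.hom
      rw [← Over.w v', pullback.condition_assoc])
    have hK : IsPullback a₁ a₂ v' v' :=
      IsPullback.of_map (Over.forget _) (Over.OverMorphism.ext pullback.condition) (IsPullback.of_hasPullback _ _)
    haveI : LocallyOfFinitePresentation K.hom :=
      inferInstanceAs (LocallyOfFinitePresentation (pullback.fst v'.left v'.left ≫ X'.hom))
    haveI : QuasiCompact K.hom := inferInstanceAs (QuasiCompact (pullback.fst v'.left v'.left ≫ X'.hom))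
    haveI : QuasiSeparated K.hom := inferInstanceAs (QuasiSeparated (pullback.fst v'.left v'.left ≫ X'.hom))
    let ℓ : R' ⟶ K := hK.lift s' t' hw
    have hK' := hK.map (Over.pullback (c.π.app k))
    have hiso : IsIso ((Over.pullback (c.π.app k)).map ℓ) := by
      have e : (Over.pullback (c.π.app k)).map ℓ = (hsq'.isoIsPullback _ _ hK').hom := by
        apply hK'.hom_ext
        · rw [← Functor.map_comp, hK.lift_fst, IsPullback.isoIsPullback_hom_fst]
        · rw [← Functor.map_comp, hK.lift_snd, IsPullback.isoIsPullback_hom_snd]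
      rw [e]; infer_instance
    obtain ⟨l, g, hg⟩ := exists_isIso_map hc ℓ hiso
    refine ⟨l, g, _, (Over.pullback (D.map g)).map v', of_map_left @Flat (D.map g) v' inferInstance,
      of_map_left @Surjective (D.map g) v' inferInstance,
      of_map_left @LocallyOfFinitePresentation (D.map g) v' inferInstance, ?_⟩
    refine (hK.map (Over.pullback (D.map g))).of_iso' (asIso ((Over.pullback (D.map g)).map ℓ)) (Iso.refl _)
      (Iso.refl _) (Iso.refl _) ?_ ?_ (by simp) (by simp)
    · simp [← Functor.map_comp, ℓ]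
    · simp [← Functor.map_comp, ℓ]
  obtain ⟨l, g, hg⟩ := key (Red.bc (D.map f) R) (Red.bc (D.map f) X) (Red.bc (D.map f) Y)
    ((Over.pullback (D.map f)).map s) ((Over.pullback (D.map f)).map t) ((Over.pullback (D.map f)).map v)
    (MorphismProperty.pullback_snd _ _ inferInstance) (MorphismProperty.pullback_snd _ _ inferInstance)
    (MorphismProperty.pullback_snd _ _ inferInstance) (MorphismProperty.pullback_snd _ _ inferInstance)
    (MorphismProperty.pullback_snd _ _ inferInstance) (MorphismProperty.pullback_snd _ _ inferInstance)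
    (MorphismProperty.pullback_snd _ _ inferInstance) (MorphismProperty.pullback_snd _ _ inferInstance)
    (MorphismProperty.pullback_snd _ _ inferInstance) hflk hsuk
    (by rw [← Functor.map_comp, ← Functor.map_comp]; exact hek)
    (hsq.of_iso' (cmp (comp_π (c := c) f) R) (cmp (comp_π (c := c) f) X) (cmp (comp_π (c := c) f) X)
      (cmp (comp_π (c := c) f) Y) (cmp_natural _ s).symm (cmp_natural _ t).symm
      (cmp_natural _ v).symm (cmp_natural _ v).symm)
  exact ⟨l, g ≫ f, hasQ_trans f g hg⟩

/-- A quotient over the limit comes from a stage. -/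
theorem hasQ_iff_stage (hc : IsLimit c) [∀ i, CompactSpace (D.obj i)] [∀ i, QuasiSeparatedSpace (D.obj i)]
    {i : I} {R X : Over (D.obj i)} (s t : R ⟶ X)
    [LocallyOfFinitePresentation R.hom] [QuasiCompact R.hom] [QuasiSeparated R.hom]
    [LocallyOfFinitePresentation X.hom] [QuasiCompact X.hom] [QuasiSeparated X.hom] :
    HasQ ((Over.pullback (c.π.app i)).map s) ((Over.pullback (c.π.app i)).map t) ↔
      ∃ (k : I) (f : k ⟶ i), HasQ ((Over.pullback (D.map f)).map s) ((Over.pullback (D.map f)).map t) := by
  constructor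
  · rintro ⟨Y, p, hfl, hsu, hlfp, hsq⟩
    haveI := hfl
    haveI := hsu
    haveI := hlfp
    haveI := isAffineHom_π_app D c hc i
    haveI : CompactSpace c.pt := Scheme.compactSpace_of_isLimit D c hc
    haveI : QuasiSeparatedSpace c.pt := quasiSeparatedSpace_of_quasiSeparated (c.π.app i)
    haveI : LocallyOfFinitePresentation (Red.bc (c.π.app i) X).hom := MorphismProperty.pullback_snd _ _ inferInstance
    haveI : QuasiCompact (Red.bc (c.π.app i) X).hom := MorphismProperty.pullback_snd _ _ inferInstance
    haveI : QuasiSeparated (Red.bc (c.π.app i) X).hom := MorphismProperty.pullback_snd _ _ inferInstance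
    haveI : QuasiCompact (Red.bc (c.π.app i) R).hom := MorphismProperty.pullback_snd _ _ inferInstance
    haveI : QuasiCompact (((Over.pullback (c.π.app i)).map t).left ≫ (Red.bc (c.π.app i) X).hom) := by
      rw [Over.w ((Over.pullback (c.π.app i)).map t)]; infer_instance
    haveI : QuasiCompact ((Over.pullback (c.π.app i)).map t).left := QuasiCompact.of_comp _ (Red.bc (c.π.app i) X).hom
    haveI : CompactSpace ↥(((Functor.const I).obj c.pt).obj i) := ‹CompactSpace c.pt›
    haveI : QuasiSeparatedSpace ↥(((Functor.const I).obj c.pt).obj i) := ‹QuasiSeparatedSpace c.pt›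
    haveI : CompactSpace (Red.bc (c.π.app i) X).left :=
      QuasiCompact.compactSpace_of_compactSpace (Red.bc (c.π.app i) X).hom
    haveI : QuasiSeparatedSpace (Red.bc (c.π.app i) X).left :=
      quasiSeparatedSpace_of_quasiSeparated (Red.bc (c.π.app i) X).hom
    obtain ⟨hY1, hY2, hY3⟩ := props_of_isPullback p hsq
    obtain ⟨i₁, Y₀, hY₀, hY₀c, hY₀s, ⟨ψ⟩⟩ := exists_model hc Y
    obtain ⟨k, a, b, -⟩ : ∃ (k : I) (a : k ⟶ i) (_ : k ⟶ i₁), True :=
      ⟨_, IsCofiltered.minToLeft i i₁, IsCofiltered.minToRight i i₁, trivial⟩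
    haveI : LocallyOfFinitePresentation (Red.bc (D.map a) X).hom := MorphismProperty.pullback_snd _ _ inferInstance
    haveI : QuasiCompact (Red.bc (D.map a) X).hom := MorphismProperty.pullback_snd _ _ inferInstance
    haveI : QuasiSeparated (Red.bc (D.map a) X).hom := MorphismProperty.pullback_snd _ _ inferInstance
    haveI : LocallyOfFinitePresentation (Red.bc (D.map b) Y₀).hom := MorphismProperty.pullback_snd _ _ inferInstance
    haveI : CompactSpace (Red.bc (D.map a) X).left :=
      QuasiCompact.compactSpace_of_compactSpace (Red.bc (D.map a) X).hom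
    haveI : QuasiSeparatedSpace (Red.bc (D.map a) X).left :=
      quasiSeparatedSpace_of_quasiSeparated (Red.bc (D.map a) X).hom
    let eY := cmp (comp_π (c := c) b) Y₀ ≪≫ ψ
    obtain ⟨l, g, v, hv⟩ := exists_descend hc
      ((cmp (comp_π (c := c) a) X).hom ≫ p ≫ eY.inv)
    let X₁ := Red.bc (D.map g) (Red.bc (D.map a) X)
    let R₁ := Red.bc (D.map g) (Red.bc (D.map a) R)
    let eX₁ := cmp (comp_π (c := c) g) (Red.bc (D.map a) X) ≪≫ cmp (comp_π (c := c) a) X
    let eR₁ := cmp (comp_π (c := c) g) (Red.bc (D.map a) R) ≪≫ cmp (comp_π (c := c) a) R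
    let eY₁ := cmp (comp_π (c := c) g) (Red.bc (D.map b) Y₀) ≪≫ eY
    have hv' : (Over.pullback (c.π.app l)).map v ≫ eY₁.hom = eX₁.hom ≫ p := by
      simp only [eY₁, eX₁, Iso.trans_hom]
      rw [reassoc_of% hv]
      simp [eY]
    haveI : LocallyOfFinitePresentation (Red.bc (D.map a) R).hom := MorphismProperty.pullback_snd _ _ inferInstance
    haveI : QuasiCompact (Red.bc (D.map a) R).hom := MorphismProperty.pullback_snd _ _ inferInstance
    haveI : QuasiSeparated (Red.bc (D.map a) R).hom := MorphismProperty.pullback_snd _ _ inferInstance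
    haveI : QuasiCompact (Red.bc (D.map b) Y₀).hom := MorphismProperty.pullback_snd _ _ inferInstance
    haveI : QuasiSeparated (Red.bc (D.map b) Y₀).hom := MorphismProperty.pullback_snd _ _ inferInstance
    haveI : LocallyOfFinitePresentation X₁.hom := MorphismProperty.pullback_snd _ _ inferInstance
    haveI : QuasiCompact X₁.hom := MorphismProperty.pullback_snd _ _ inferInstance
    haveI : QuasiSeparated X₁.hom := MorphismProperty.pullback_snd _ _ inferInstance
    haveI : LocallyOfFinitePresentation R₁.hom := MorphismProperty.pullback_snd _ _ inferInstance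
    haveI : QuasiCompact R₁.hom := MorphismProperty.pullback_snd _ _ inferInstance
    haveI : QuasiSeparated R₁.hom := MorphismProperty.pullback_snd _ _ inferInstance
    haveI : LocallyOfFinitePresentation (Red.bc (D.map g) (Red.bc (D.map b) Y₀)).hom := MorphismProperty.pullback_snd _ _ inferInstance
    haveI : QuasiCompact (Red.bc (D.map g) (Red.bc (D.map b) Y₀)).hom := MorphismProperty.pullback_snd _ _ inferInstance
    haveI : QuasiSeparated (Red.bc (D.map g) (Red.bc (D.map b) Y₀)).hom := MorphismProperty.pullback_snd _ _ inferInstance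
    have nat : ∀ u : R ⟶ X, eR₁.hom ≫ (Over.pullback (c.π.app i)).map u =
        (Over.pullback (c.π.app l)).map ((Over.pullback (D.map g)).map ((Over.pullback (D.map a)).map u)) ≫ eX₁.hom := by
      intro u
      simp only [eR₁, eX₁, Iso.trans_hom, Category.assoc]
      rw [← cmp_natural, ← Category.assoc, ← cmp_natural, Category.assoc]
    have arr : ∀ (W : MorphismProperty Scheme.{u}) [W.RespectsIso], W p.left → W ((Over.pullback (c.π.app l)).map v).left := by
      intro W _ hW
      exact ((MorphismProperty.arrow_iso_iff W ((Arrow.isoMk' _ _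
        ((Over.forget _).mapIso eX₁) ((Over.forget _).mapIso eY₁)
        (congrArg CommaMorphism.left hv').symm)))).2 hW
    obtain ⟨m, h, hm⟩ := hasQ_of_stage hc ((Over.pullback (D.map g)).map ((Over.pullback (D.map a)).map s))
      ((Over.pullback (D.map g)).map ((Over.pullback (D.map a)).map t)) v (arr @Flat hfl) (arr @Surjective hsu)
      (hsq.of_iso' eR₁ eX₁ eX₁ eY₁ (nat s) (nat t) hv'.symm hv'.symm)
    refine ⟨m, h ≫ g ≫ a, hasQ_trans (g ≫ a) h ?_⟩
    exact hm.of_iso ((Over.pullback (D.map h)).mapIso (cmp (d_comp g a) R)).symm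
      ((Over.pullback (D.map h)).mapIso (cmp (d_comp g a) X)).symm
      (by simp only [Iso.symm_hom, Functor.mapIso_inv, ← Functor.map_comp]; congr 1
          rw [Iso.inv_comp_eq, ← Category.assoc, Iso.eq_comp_inv, cmp_natural])
      (by simp only [Iso.symm_hom, Functor.mapIso_inv, ← Functor.map_comp]; congr 1
          rw [Iso.inv_comp_eq, ← Category.assoc, Iso.eq_comp_inv, cmp_natural])
  · rintro ⟨k, f, h⟩
    exact (h.map (c.π.app k)).of_iso (cmp (comp_π (c := c) f) R).symm (cmp (comp_π (c := c) f) X).symm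
      (by simp only [Iso.symm_hom]; rw [Iso.inv_comp_eq, ← Category.assoc, Iso.eq_comp_inv, cmp_natural])
      (by simp only [Iso.symm_hom]; rw [Iso.inv_comp_eq, ← Category.assoc, Iso.eq_comp_inv, cmp_natural])

end Groth.Agent.GrpLimit2
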