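import Groth.Agent.Lib.GrpLimit2.Basic
import Groth.Agent.Lib.LimH13.DescendFP
import Groth.Agent.Lib.SchBasic.Basic
import Groth.Agent.S2075
import Groth.Agent.S2581

/-!
# Properties of morphisms of schemes over a stage of a limit which descend
-/

set_option autoImplicit false
set_option linter.style.haveILetI false
set_option backward.isDefEq.respectTransparency false
set_option backward.isDefEq.respectTransparency.types false

universe u

open CategoryTheory Limits AlgebraicGeometry MonoidalCategory CartesianMonoidalCategory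

noncomputable section

namespace Groth.Agent.GrpLimit2

/-- Base change in two steps, as an isomorphism of functors. -/
def cmpNat {S S' P : Scheme.{u}} {f : P ⟶ S'} {g : S' ⟶ S} {h : P ⟶ S} (hfg : f ≫ g = h) :
    Over.pullback g ⋙ Over.pullback f ≅ Over.pullback h :=
  NatIso.ofComponents (fun X => cmp hfg X) fun u => cmp_natural hfg u

theorem isPullback_map_left {S S' : Scheme.{u}} (g : S' ⟶ S) {A B : Over S} (v : A ⟶ B) :
    IsPullback (pullback.fst A.hom g) ((Over.pullback g).map v).left v.left (pullback.fst B.hom g) := by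
  refine IsPullback.of_bot (v₂₁ := pullback.snd B.hom g) (v₂₂ := B.hom) (h₃₁ := g) ?_ ?_
    (IsPullback.of_hasPullback B.hom g)
  · rw [show ((Over.pullback g).map v).left ≫ pullback.snd B.hom g = pullback.snd A.hom g from
      Over.w ((Over.pullback g).map v), Over.w v]
    exact IsPullback.of_hasPullback A.hom g
  · simp

theorem of_map_left (W : MorphismProperty Scheme.{u}) [W.IsStableUnderBaseChange] {S S' : Scheme.{u}}
    (g : S' ⟶ S) {A B : Over S} (v : A ⟶ B) (h : W v.left) : W ((Over.pullback g).map v).left :=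
  MorphismProperty.of_isPullback (isPullback_map_left g v) h

variable {I : Type u} [SmallCategory I] [IsCofiltered I] {D : I ⥤ Scheme.{u}} {c : Cone D}
  [∀ {i j : I} (a : i ⟶ j), IsAffineHom (D.map a)]

theorem d_comp {i j k : I} (g : k ⟶ i) (f : i ⟶ j) : D.map g ≫ D.map f = D.map (g ≫ f) :=
  (D.map_comp g f).symm

/-- Equalities at a stage persist. -/
theorem map_eq_of_le {i j k : I} {f : i ⟶ j} {g : k ⟶ i} {X Y : Over (D.obj j)} {v w : X ⟶ Y}
    (h : (Over.pullback (D.map f)).map v = (Over.pullback (D.map f)).map w) :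
    (Over.pullback (D.map (g ≫ f))).map v = (Over.pullback (D.map (g ≫ f))).map w := by
  rw [← cancel_epi (cmp (d_comp g f) X).hom, ← cmp_natural, ← cmp_natural, h]

/-- Finitely many equalities at the limit hold at one stage: the case of two. -/
theorem exists_map_eq₂ (hc : IsLimit c) {i : I} {A B A' B' : Over (D.obj i)} [CompactSpace A.left]
    [QuasiSeparatedSpace A.left] [LocallyOfFiniteType B.hom] [CompactSpace A'.left]
    [QuasiSeparatedSpace A'.left] [LocallyOfFiniteType B'.hom] (v w : A ⟶ B) (v' w' : A' ⟶ B')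
    (h : (Over.pullback (c.π.app i)).map v = (Over.pullback (c.π.app i)).map w)
    (h' : (Over.pullback (c.π.app i)).map v' = (Over.pullback (c.π.app i)).map w') :
    ∃ (k : I) (g : k ⟶ i), (Over.pullback (D.map g)).map v = (Over.pullback (D.map g)).map w ∧
      (Over.pullback (D.map g)).map v' = (Over.pullback (D.map g)).map w' := by
  obtain ⟨k₁, g₁, e₁⟩ := exists_map_eq hc v w h
  obtain ⟨k₂, g₂, e₂⟩ := exists_map_eq hc v' w' h'
  obtain ⟨k, a, b, hab⟩ := IsCofiltered.cospan g₁ g₂
  exact ⟨k, a ≫ g₁, map_eq_of_le e₁, by rw [hab]; exact map_eq_of_le e₂⟩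

/-- A morphism which is an isomorphism at the limit is one at a stage. -/
theorem exists_isIso_map (hc : IsLimit c) [∀ i, CompactSpace (D.obj i)] [∀ i, QuasiSeparatedSpace (D.obj i)]
    {i : I} {A B : Over (D.obj i)} (φ : A ⟶ B) [LocallyOfFinitePresentation A.hom] [QuasiCompact A.hom]
    [QuasiSeparated A.hom] [LocallyOfFinitePresentation B.hom] [QuasiCompact B.hom] [QuasiSeparated B.hom]
    (h : IsIso ((Over.pullback (c.π.app i)).map φ)) :
    ∃ (k : I) (f : k ⟶ i), IsIso ((Over.pullback (D.map f)).map φ) := by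
  haveI : CompactSpace A.left := QuasiCompact.compactSpace_of_compactSpace A.hom
  haveI : QuasiSeparatedSpace A.left := quasiSeparatedSpace_of_quasiSeparated A.hom
  haveI : CompactSpace B.left := QuasiCompact.compactSpace_of_compactSpace B.hom
  haveI : QuasiSeparatedSpace B.left := quasiSeparatedSpace_of_quasiSeparated B.hom
  obtain ⟨k, f, v, hv⟩ := exists_descend (A := B) (B := A) hc (inv ((Over.pullback (c.π.app i)).map φ))
  let φ' := (Over.pullback (D.map f)).map φ
  have n := cmp_natural (comp_π (c := c) f) φ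
  have h1 : (Over.pullback (c.π.app k)).map (v ≫ φ') = (Over.pullback (c.π.app k)).map (𝟙 _) := by
    rw [← cancel_mono (cmp (comp_π (c := c) f) B).hom, Functor.map_comp, Category.assoc, n, reassoc_of% hv,
      IsIso.inv_hom_id, Category.comp_id, CategoryTheory.Functor.map_id, Category.id_comp]
  have h2 : (Over.pullback (c.π.app k)).map (φ' ≫ v) = (Over.pullback (c.π.app k)).map (𝟙 _) := by
    rw [← cancel_mono (cmp (comp_π (c := c) f) A).hom, Functor.map_comp, Category.assoc, hv, ← Category.assoc, n,
      Category.assoc, IsIso.hom_inv_id, Category.comp_id, CategoryTheory.Functor.map_id, Category.id_comp]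
  haveI : QuasiCompact (Red.bc (D.map f) A).hom := MorphismProperty.pullback_snd _ _ inferInstance
  haveI : QuasiSeparated (Red.bc (D.map f) A).hom := MorphismProperty.pullback_snd _ _ inferInstance
  haveI : QuasiCompact (Red.bc (D.map f) B).hom := MorphismProperty.pullback_snd _ _ inferInstance
  haveI : QuasiSeparated (Red.bc (D.map f) B).hom := MorphismProperty.pullback_snd _ _ inferInstance
  haveI : LocallyOfFiniteType (Red.bc (D.map f) A).hom := MorphismProperty.pullback_snd _ _ inferInstance
  haveI : LocallyOfFiniteType (Red.bc (D.map f) B).hom := MorphismProperty.pullback_snd _ _ inferInstance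
  haveI : CompactSpace (Red.bc (D.map f) A).left := QuasiCompact.compactSpace_of_compactSpace (Red.bc (D.map f) A).hom
  haveI : QuasiSeparatedSpace (Red.bc (D.map f) A).left := quasiSeparatedSpace_of_quasiSeparated (Red.bc (D.map f) A).hom
  haveI : CompactSpace (Red.bc (D.map f) B).left := QuasiCompact.compactSpace_of_compactSpace (Red.bc (D.map f) B).hom
  haveI : QuasiSeparatedSpace (Red.bc (D.map f) B).left := quasiSeparatedSpace_of_quasiSeparated (Red.bc (D.map f) B).hom
  obtain ⟨l, g, e1, e2⟩ := exists_map_eq₂ hc _ _ _ _ h1 h2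
  refine ⟨l, g ≫ f, (NatIso.isIso_map_iff (cmpNat (d_comp g f)) φ).1 ⟨(Over.pullback (D.map g)).map v, ?_, ?_⟩⟩
  · show (Over.pullback (D.map g)).map φ' ≫ (Over.pullback (D.map g)).map v = _
    rw [← Functor.map_comp, e2, CategoryTheory.Functor.map_id]
    rfl
  · show (Over.pullback (D.map g)).map v ≫ (Over.pullback (D.map g)).map φ' = _
    rw [← Functor.map_comp, e1, CategoryTheory.Functor.map_id]
    rfl

/-- A morphism which is faithfully flat at the limit is so at a stage. -/
theorem exists_flat_surjective (hc : IsLimit c) [∀ i, CompactSpace (D.obj i)] [∀ i, QuasiSeparatedSpace (D.obj i)]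
    {i : I} {A B : Over (D.obj i)} (v : A ⟶ B) [LocallyOfFinitePresentation A.hom] [QuasiCompact A.hom]
    [QuasiSeparated A.hom] [LocallyOfFinitePresentation B.hom] [QuasiCompact B.hom] [QuasiSeparated B.hom]
    (h : Flat ((Over.pullback (c.π.app i)).map v).left) (h' : Surjective ((Over.pullback (c.π.app i)).map v).left) :
    ∃ (k : I) (f : k ⟶ i), Flat ((Over.pullback (D.map f)).map v).left ∧
      Surjective ((Over.pullback (D.map f)).map v).left := by
  haveI : CompactSpace A.left := QuasiCompact.compactSpace_of_compactSpace A.hom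
  haveI : QuasiSeparatedSpace A.left := quasiSeparatedSpace_of_quasiSeparated A.hom
  haveI : CompactSpace B.left := QuasiCompact.compactSpace_of_compactSpace B.hom
  haveI : QuasiSeparatedSpace B.left := quasiSeparatedSpace_of_quasiSeparated B.hom
  haveI : LocallyOfFinitePresentation (v.left ≫ B.hom) := by rw [Over.w v]; infer_instance
  haveI : QuasiCompact (v.left ≫ B.hom) := by rw [Over.w v]; infer_instance
  haveI : QuasiSeparated (v.left ≫ B.hom) := by rw [Over.w v]; infer_instance
  haveI : LocallyOfFinitePresentation v.left := SchBasic.locallyOfFinitePresentation_of_comp v.left B.hom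
  have hY := IsPullback.of_hasPullback B.hom (c.π.app i)
  have hX := isPullback_map_left (c.π.app i) v
  have transfer : ∀ (W : MorphismProperty Scheme.{u}) [W.IsStableUnderBaseChange] (k : I) (φ : k ⟶ i)
      (Xi Yi : Scheme.{u}) (fi : Xi ⟶ Yi) (gi : Yi ⟶ D.obj k) (pY : Yi ⟶ B.left) (pX : Xi ⟶ A.left),
      IsPullback pY gi B.hom (D.map φ) → IsPullback pX fi v.left pY → W fi →
        W ((Over.pullback (D.map φ)).map v).left := by
    intro W _ k φ Xi Yi fi gi pY pX h1 h2 hW
    let e := h1.isoPullback
    have he : e.inv ≫ pY = pullback.fst B.hom (D.map φ) := h1.isoPullback_inv_fst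
    have h3 : IsPullback (pullback.fst A.hom (D.map φ)) ((Over.pullback (D.map φ)).map v).left v.left (e.inv ≫ pY) := by
      rw [he]; exact isPullback_map_left (D.map φ) v
    exact MorphismProperty.of_isPullback (IsPullback.of_right' h3 h2) hW
  obtain ⟨k₁, φ₁, X₁, Y₁, f₁, g₁, pY₁, pX₁, a₁, b₁, hf₁⟩ := S2075.result D c hc i v.left B.hom
    ((Over.pullback (c.π.app i)).map v).left _ _ _ hY hX
  obtain ⟨k₂, φ₂, X₂, Y₂, f₂, g₂, pY₂, pX₂, a₂, b₂, hf₂⟩ := S2581.result D c hc i v.left B.hom
    ((Over.pullback (c.π.app i)).map v).left _ _ _ hY hX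
  have t₁ := transfer @Flat k₁ φ₁ _ _ f₁ g₁ pY₁ pX₁ a₁ b₁ hf₁
  have t₂ := transfer @Surjective k₂ φ₂ _ _ f₂ g₂ pY₂ pX₂ a₂ b₂ hf₂
  obtain ⟨k, a, b, hab⟩ := IsCofiltered.cospan φ₁ φ₂
  refine ⟨k, a ≫ φ₁, ?_, ?_⟩
  · exact ((MorphismProperty.arrow_iso_iff @Flat ((Arrow.isoMk' _ _
      ((Over.forget _).mapIso (cmp (d_comp a φ₁) A)) ((Over.forget _).mapIso (cmp (d_comp a φ₁) B))
      (congrArg CommaMorphism.left (cmp_natural (d_comp (D := D) a φ₁) v)).symm)))).1
      (of_map_left @Flat (D.map a) _ t₁)
  · rw [hab]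
    exact ((MorphismProperty.arrow_iso_iff @Surjective ((Arrow.isoMk' _ _
      ((Over.forget _).mapIso (cmp (d_comp b φ₂) A)) ((Over.forget _).mapIso (cmp (d_comp b φ₂) B))
      (congrArg CommaMorphism.left (cmp_natural (d_comp (D := D) b φ₂) v)).symm)))).1
      (of_map_left @Surjective (D.map b) _ t₂)

/-- Schemes of finite presentation over the limit come from a stage, as objects over it. -/
theorem exists_model (hc : IsLimit c) [∀ i, QuasiSeparatedSpace (D.obj i)] (X : Over c.pt)
    [LocallyOfFinitePresentation X.hom] [CompactSpace X.left] [QuasiSeparatedSpace X.left] :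
    ∃ (i : I) (X₀ : Over (D.obj i)), LocallyOfFinitePresentation X₀.hom ∧ QuasiCompact X₀.hom ∧
      QuasiSeparated X₀.hom ∧ Nonempty (Red.bc (c.π.app i) X₀ ≅ X) := by
  obtain ⟨i, P, p, q, hp, hPc, hPq, hpb⟩ := LimH13.hasModel_of_finitePresentation hc X.hom
  haveI := hPc
  haveI := hPq
  exact ⟨i, Over.mk p, hp, quasiCompact_of_compactSpace p, inferInstanceAs (QuasiSeparated p),
    ⟨Over.isoMk hpb.isoPullback.symm hpb.isoPullback_inv_snd⟩⟩

end Groth.Agent.GrpLimit2
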