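import Groth.Agent.Lib.GrpLimit2.ActDescend
import Groth.Prelude.Def_NonAbH2

/-!
# Finite torsors under finite groups over a field descend to a stage of a limit
-/

set_option autoImplicit false
set_option linter.style.haveILetI false
set_option backward.isDefEq.respectTransparency false

universe u

open CategoryTheory CategoryTheory.Limits MonoidalCategory CartesianMonoidalCategory MonObj GrpObj
  AlgebraicGeometry Functor

noncomputable section

namespace Groth.Agent.GrpLimit2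

theorem surjective_of_torsor {S : Scheme.{u}} {G X : Over S} [GrpObj G] {a : AlgGrp.Action G X}
    (h : NonAbH1.IsTorsorFor Scheme.fpqcPrecoverage a) : Surjective X.hom := by
  obtain ⟨R, hR, hsec⟩ := h.2
  refine ⟨fun x => ?_⟩
  obtain ⟨U, hU, hxU, -⟩ := exists_isAffineOpen_mem_and_subset (x := x) (U := ⊤) (TopologicalSpace.Opens.mem_top _)
  obtain ⟨W, w, _, _, _, _, hsecW⟩ := TorsorSch25.exists_affine_test hR hU
  obtain ⟨σ, hσ⟩ := hsecW X hsec
  obtain ⟨z, hz⟩ := w.surjective ⟨x, hxU⟩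
  refine ⟨σ z, ?_⟩
  rw [← Scheme.Hom.comp_apply, hσ, Scheme.Hom.comp_apply, hz]
  rfl

theorem flat_surjective_lfp_of_torsor {S B : Scheme.{u}} (b : S ⟶ B) {G : Over B} [GrpObj G]
    [Flat G.hom] [LocallyOfFinitePresentation G.hom] {X : Over S} {a : AlgGrp.Action (Red.bc b G) X}
    (h : NonAbH1.IsTorsorFor Scheme.fpqcPrecoverage a) :
    Flat X.hom ∧ Surjective X.hom ∧ LocallyOfFinitePresentation X.hom := by
  haveI := TorsorSch25.flat_descendsAlong.{u}
  exact ⟨TorsorSch25.prop_of_isTorsorFor @Flat h (MorphismProperty.pullback_snd _ _ ‹Flat G.hom›),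
    surjective_of_torsor h,
    TorsorSch25.prop_of_isTorsorFor @LocallyOfFinitePresentation h
      (MorphismProperty.pullback_snd _ _ ‹LocallyOfFinitePresentation G.hom›)⟩

theorem isFinite_bc {S S' : Scheme.{u}} (f : S' ⟶ S) {X : Over S} (h : IsFinite X.hom) :
    IsFinite (Red.bc f X).hom := MorphismProperty.pullback_snd _ _ h

theorem finite_tensor {S : Scheme.{u}} {X Y : Over S} [IsFinite X.hom] [IsFinite Y.hom] :
    IsFinite (X ⊗ Y).hom := by
  rw [show (X ⊗ Y).hom = Limits.pullback.fst X.hom Y.hom ≫ X.hom from rfl]; infer_instance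

theorem spaces_of_finite {S : Scheme.{u}} [CompactSpace S] [QuasiSeparatedSpace S] (X : Over S)
    (h : IsFinite X.hom) : CompactSpace X.left ∧ QuasiSeparatedSpace X.left :=
  ⟨QuasiCompact.compactSpace_of_compactSpace X.hom, quasiSeparatedSpace_of_quasiSeparated X.hom⟩

section

variable {I : Type u} [SmallCategory I] [IsCofiltered I] {D : I ⥤ Scheme.{u}} {c : Cone D}
  [∀ {i j : I} (a : i ⟶ j), IsAffineHom (D.map a)] [∀ i, CompactSpace (D.obj i)]
  [∀ i, QuasiSeparatedSpace (D.obj i)]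
  {B : Scheme.{u}} (b : ∀ i, D.obj i ⟶ B)
  (hb : ∀ {i j : I} (f : i ⟶ j), D.map f ≫ b j = b i) {d : c.pt ⟶ B}
  (hd : ∀ i, c.π.app i ≫ b i = d) {G : Over B} [GrpObj G]
  [IsFinite G.hom] [Flat G.hom] [LocallyOfFinitePresentation G.hom]

include hb hd in
/-- A finite torsor over the limit comes from a finite torsor over a stage. -/
theorem exists_finite_torsor_stage (hc : IsLimit c) (V : Over c.pt) [IsFinite V.hom]
    (a : AlgGrp.Action (Red.bc d G) V) (hV : NonAbH1.IsTorsorFor Scheme.fpqcPrecoverage a) :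
    ∃ (i : I) (Vi : Over (D.obj i)) (ai : AlgGrp.Action (Red.bc (b i) G) Vi),
      IsFinite Vi.hom ∧ NonAbH1.IsTorsorFor Scheme.fpqcPrecoverage ai ∧
      Nonempty (NonAbH1.EquivIso (ai.bc (c.π.app i))
        (a.restrict (ActBC.bcCompIso (c.π.app i) (b i) G (hd i)).hom)) := by
  obtain ⟨hVf, hVs, hVp⟩ := flat_surjective_lfp_of_torsor d hV
  obtain ⟨j₀⟩ := IsCofiltered.nonempty (C := I)
  haveI := isAffineHom_π_app D c hc j₀
  haveI : CompactSpace c.pt := Scheme.compactSpace_of_isLimit D c hc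
  haveI : QuasiSeparatedSpace c.pt := quasiSeparatedSpace_of_quasiSeparated (c.π.app j₀)
  haveI : CompactSpace ↥(((Functor.const I).obj c.pt).obj j₀) := ‹CompactSpace c.pt›
  haveI : CompactSpace V.left := (spaces_of_finite V inferInstance).1
  haveI : QuasiSeparatedSpace V.left := (spaces_of_finite V inferInstance).2
  obtain ⟨j, V₀, hp, hqc, hqs, ⟨ψ⟩⟩ := exists_model hc V
  -- finiteness at a stage
  haveI : CompactSpace V₀.left := QuasiCompact.compactSpace_of_compactSpace V₀.hom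
  haveI : QuasiSeparatedSpace V₀.left := quasiSeparatedSpace_of_quasiSeparated V₀.hom
  haveI : IsFinite (Red.bc (c.π.app j) V₀).hom := by
    haveI : IsIso ψ.hom.left := inferInstanceAs (IsIso ((Over.forget _).map ψ.hom))
    rw [← Over.w ψ.hom]; infer_instance
  obtain ⟨i₁, φ, Xi, Yi, fi, gi, pY, pX, hY, hX, hfi⟩ := S9187.result D c hc j V₀.hom (𝟙 (D.obj j))
    (Red.bc (c.π.app j) V₀).hom (𝟙 c.pt) (c.π.app j) (pullback.fst V₀.hom (c.π.app j))
    (@IsPullback.of_vert_isIso _ _ _ _ _ _ _ _ _ _ (IsIso.id _) (IsIso.id _) ⟨by simp⟩) (IsPullback.of_hasPullback V₀.hom (c.π.app j))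
  haveI : IsIso gi := hY.isIso_snd_of_isIso
  have hsq : IsPullback pX (fi ≫ gi) V₀.hom (D.map φ) := by simpa using hX.paste_vert hY
  haveI hW : IsFinite (Red.bc (D.map φ) V₀).hom := by
    show IsFinite (pullback.snd V₀.hom (D.map φ))
    rw [← hsq.isoPullback_inv_snd]; infer_instance
  let W := Red.bc (D.map φ) V₀
  let θ₁ : Red.bc (c.π.app i₁) W ≅ V := cmp (comp_π φ) V₀ ≪≫ ψ
  -- the action at a stage
  have hGi : ∀ i, IsFinite (Red.bc (b i) G).hom := fun i => isFinite_bc (b i) inferInstance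
  haveI : LocallyOfFinitePresentation W.hom := MorphismProperty.pullback_snd _ _ hp
  haveI := hGi i₁
  have hT := spaces_of_finite (Red.bc (b i₁) G ⊗ W) finite_tensor
  haveI := hT.1
  haveI := hT.2
  obtain ⟨i₂, f₂, act, hact⟩ := exists_induces b hb hd a hc W θ₁
  let W₂ := Red.bc (D.map f₂) W
  haveI : IsFinite W₂.hom := isFinite_bc _ hW
  haveI : LocallyOfFinitePresentation W₂.hom := MorphismProperty.pullback_snd _ _ ‹LocallyOfFinitePresentation W.hom›
  haveI := hGi i₂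
  haveI : IsFinite (𝟙_ (Over (D.obj i₂))).hom := inferInstanceAs (IsFinite (𝟙 _))
  haveI : IsFinite (Red.bc (b i₂) G ⊗ Red.bc (b i₂) G).hom := finite_tensor
  have hT₁ := spaces_of_finite (𝟙_ _ ⊗ W₂) finite_tensor
  have hT₂ := spaces_of_finite ((Red.bc (b i₂) G ⊗ Red.bc (b i₂) G) ⊗ W₂) finite_tensor
  haveI := hT₁.1
  haveI := hT₁.2
  haveI := hT₂.1
  haveI := hT₂.2
  obtain ⟨i₃, f₃, a₃, ha₃⟩ := exists_action b hb hd a hc hact
  let W₃ := Red.bc (D.map f₃) W₂
  let θ₃ : Red.bc (c.π.app i₃) W₃ ≅ V := cmp (comp_π f₃) W₂ ≪≫ cmp (comp_π f₂) W ≪≫ θ₁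
  haveI : IsFinite W₃.hom := isFinite_bc _ ‹IsFinite W₂.hom›
  haveI : LocallyOfFinitePresentation W₃.hom := MorphismProperty.pullback_snd _ _ ‹LocallyOfFinitePresentation W₂.hom›
  -- pseudo-torsor at a stage
  haveI := hGi i₃
  haveI : IsFinite (Red.bc (b i₃) G ⊗ W₃).hom := finite_tensor
  haveI : IsFinite (W₃ ⊗ W₃).hom := finite_tensor
  haveI : LocallyOfFinitePresentation (Red.bc (b i₃) G).hom :=
    MorphismProperty.pullback_snd _ _ ‹LocallyOfFinitePresentation G.hom›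
  haveI : LocallyOfFinitePresentation (Red.bc (b i₃) G ⊗ W₃).hom := by
    rw [show (Red.bc (b i₃) G ⊗ W₃).hom = Limits.pullback.fst (Red.bc (b i₃) G).hom W₃.hom ≫ (Red.bc (b i₃) G).hom from rfl]
    infer_instance
  haveI : LocallyOfFinitePresentation (W₃ ⊗ W₃).hom := by
    rw [show (W₃ ⊗ W₃).hom = Limits.pullback.fst W₃.hom W₃.hom ≫ W₃.hom from rfl]; infer_instance
  have hiso : IsIso ((Over.pullback (c.π.app i₃)).map (lift a₃.act (snd (Red.bc (b i₃) G) W₃))) := by
    rw [← isIso_lift_iff]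
    have h := isPseudoTorsorSch_conjAct θ₃
      (isPseudoTorsorSch_restrict (ActBC.bcCompIso (c.π.app i₃) (b i₃) G (hd i₃)).hom hV.1)
    have e : LaxMonoidal.μ (Over.pullback (c.π.app i₃)) (Red.bc (b i₃) G) W₃ ≫
        (Over.pullback (c.π.app i₃)).map a₃.act =
          (conjAct θ₃ (a.restrict (ActBC.bcCompIso (c.π.app i₃) (b i₃) G (hd i₃)).hom)).act := by
      rw [← cancel_mono θ₃.hom]
      simp only [conjAct, Category.assoc, Iso.inv_hom_id, Category.comp_id, AlgGrp.Action.restrict_act]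
      exact ha₃
    rw [e]; exact h
  obtain ⟨i₄, f₄, hiso₄⟩ := exists_isIso_map hc _ hiso
  let a₄ := (a₃.bc (D.map f₄)).restrict (ActBC.bcCompIso (D.map f₄) (b i₃) G (hb f₄)).inv
  have ha₄ := induces_push b hb hd a f₄ ha₃
  have hps : NonAbH1.IsPseudoTorsorSch a₄ := isPseudoTorsorSch_restrict _ ((isIso_lift_iff _ _).2 hiso₄)
  let W₄ := Red.bc (D.map f₄) W₃
  let θ₄ : Red.bc (c.π.app i₄) W₄ ≅ V := cmp (comp_π f₄) W₃ ≪≫ θ₃
  haveI : IsFinite W₄.hom := isFinite_bc _ ‹IsFinite W₃.hom›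
  haveI : LocallyOfFinitePresentation W₄.hom := MorphismProperty.pullback_snd _ _ ‹LocallyOfFinitePresentation W₃.hom›
  -- flatness and surjectivity at a stage
  haveI : IsIso (Red.bc (c.π.app i₄) (𝟙_ (Over (D.obj i₄)))).hom :=
    inferInstanceAs (IsIso (pullback.snd (𝟙 (D.obj i₄)) (c.π.app i₄)))
  haveI : IsFinite (𝟙_ (Over (D.obj i₄))).hom := inferInstanceAs (IsFinite (𝟙 _))
  haveI : LocallyOfFinitePresentation (𝟙_ (Over (D.obj i₄))).hom := inferInstanceAs (LocallyOfFinitePresentation (𝟙 _))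
  haveI : IsIso θ₄.hom.left := inferInstanceAs (IsIso ((Over.forget _).map θ₄.hom))
  have hhom : (Red.bc (c.π.app i₄) W₄).hom = θ₄.hom.left ≫ V.hom := (Over.w θ₄.hom).symm
  have ht : ((Over.pullback (c.π.app i₄)).map (toUnit W₄)).left =
      (Red.bc (c.π.app i₄) W₄).hom ≫ inv (Red.bc (c.π.app i₄) (𝟙_ (Over (D.obj i₄)))).hom := by
    rw [IsIso.eq_comp_inv]; exact Over.w _
  obtain ⟨i, f, h1, h2⟩ := exists_flat_surjective hc (toUnit W₄)
    (by rw [ht, hhom]; infer_instance) (by rw [ht, hhom]; infer_instance)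
  let Vi := Red.bc (D.map f) W₄
  let ai := (a₄.bc (D.map f)).restrict (ActBC.bcCompIso (D.map f) (b i₄) G (hb f)).inv
  have hai := induces_push b hb hd a f ha₄
  haveI : IsFinite Vi.hom := isFinite_bc _ ‹IsFinite W₄.hom›
  have hps' : NonAbH1.IsPseudoTorsorSch ai :=
    isPseudoTorsorSch_restrict _ (NonAbH1.isPseudoTorsorSch_bc (D.map f) hps)
  haveI : IsIso (Red.bc (D.map f) (𝟙_ (Over (D.obj i₄)))).hom :=
    inferInstanceAs (IsIso (pullback.snd (𝟙 (D.obj i₄)) (D.map f)))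
  have hh : Vi.hom = ((Over.pullback (D.map f)).map (toUnit W₄)).left ≫
      (Red.bc (D.map f) (𝟙_ (Over (D.obj i₄)))).hom := (Over.w _).symm
  haveI : Flat Vi.hom := by haveI := h1; rw [hh]; infer_instance
  haveI : Surjective Vi.hom := by haveI := h2; rw [hh]; infer_instance
  refine ⟨i, Vi, ai, inferInstance, ⟨hps', Presieve.singleton Vi.hom,
    Scheme.Hom.singleton_mem_fpqcPrecoverage Vi.hom, ?_⟩, ⟨⟨cmp (comp_π f) W₄ ≪≫ θ₄, ?_⟩⟩⟩
  · rintro S' _ ⟨⟩
    exact ⟨𝟙 _, Category.id_comp _⟩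
  · rw [AlgGrp.Action.bc_act, Category.assoc, AlgGrp.Action.restrict_act]
    exact hai

end

end Groth.Agent.GrpLimit2
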